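import Cfsg.Agent.Lib.RudPerm.Certs

/-!
# The certificate of the whole group
-/

set_option autoImplicit false
set_option maxRecDepth 40000
set_option maxHeartbeats 0

namespace Cfsg.Agent.RudPerm.Certs

theorem cH_ok : dcOk Data.sys cH = true := by decide +kernel

end Cfsg.Agent.RudPerm.Certs
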