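import Cfsg.Agent.Lib.RudPerm.Data

/-!
# The coordinates and the two generators
-/

set_option autoImplicit false
set_option maxRecDepth 40000
set_option maxHeartbeats 0

namespace Cfsg.Agent.RudPerm.Data

theorem pts_ok : sys.ptsOk units = true := by decide +kernel

theorem lin0 : sys.linOk 0 rows0 = true := by decide +kernel

theorem lin2 : sys.linOk 2 rows2 = true := by decide +kernel

theorem defsRange : sys.defsRange = true := by decide +kernel

theorem npair_eq : sys.npair = 140 := by decide +kernel

theorem all_gen : inB sys [0, 2] (List.range 280) = true := by decide +kernel

end Cfsg.Agent.RudPerm.Data
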