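import Cfsg.Agent.Lib.RudPerm.Certs

/-!
# The polycyclic bounds
-/

set_option autoImplicit false
set_option maxRecDepth 40000
set_option maxHeartbeats 0

namespace Cfsg.Agent.RudPerm.Certs

theorem pc0_ok : pcOk Data.sys [] pc0 = true := by decide +kernel

theorem pcP_ok : pcOk Data.sys [] pcP = true := by decide +kernel

theorem low0_ok : lowOk Data.sys (pc0.map PcStep.g) low0 = true := by decide +kernel

theorem lowP_ok : lowOk Data.sys (pcP.map PcStep.g) lowP = true := by decide +kernel

end Cfsg.Agent.RudPerm.Certs
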