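import Cfsg.Agent.Lib.RudPerm.Data

/-!
# Tables checked, part 0
-/

set_option autoImplicit false
set_option maxRecDepth 40000
set_option maxHeartbeats 0

namespace Cfsg.Agent.RudPerm.Data

theorem pair0 : sys.pairOk 0 = true ∧ sys.defOk 0 = true := by decide +kernel

theorem pair1 : sys.pairOk 1 = true ∧ sys.defOk 1 = true := by decide +kernel

theorem pair2 : sys.pairOk 2 = true ∧ sys.defOk 2 = true := by decide +kernel

theorem pair3 : sys.pairOk 3 = true ∧ sys.defOk 3 = true := by decide +kernel

theorem pair4 : sys.pairOk 4 = true ∧ sys.defOk 4 = true := by decide +kernel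

theorem pair5 : sys.pairOk 5 = true ∧ sys.defOk 5 = true := by decide +kernel

theorem pair6 : sys.pairOk 6 = true ∧ sys.defOk 6 = true := by decide +kernel

theorem pair7 : sys.pairOk 7 = true ∧ sys.defOk 7 = true := by decide +kernel

theorem pair8 : sys.pairOk 8 = true ∧ sys.defOk 8 = true := by decide +kernel

theorem pair9 : sys.pairOk 9 = true ∧ sys.defOk 9 = true := by decide +kernel

theorem pair10 : sys.pairOk 10 = true ∧ sys.defOk 10 = true := by decide +kernel

theorem pair11 : sys.pairOk 11 = true ∧ sys.defOk 11 = true := by decide +kernel

theorem pair12 : sys.pairOk 12 = true ∧ sys.defOk 12 = true := by decide +kernel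

theorem pair13 : sys.pairOk 13 = true ∧ sys.defOk 13 = true := by decide +kernel

theorem pair14 : sys.pairOk 14 = true ∧ sys.defOk 14 = true := by decide +kernel

theorem pair15 : sys.pairOk 15 = true ∧ sys.defOk 15 = true := by decide +kernel

theorem pair16 : sys.pairOk 16 = true ∧ sys.defOk 16 = true := by decide +kernel

theorem pair17 : sys.pairOk 17 = true ∧ sys.defOk 17 = true := by decide +kernel

theorem pair18 : sys.pairOk 18 = true ∧ sys.defOk 18 = true := by decide +kernel

theorem pair19 : sys.pairOk 19 = true ∧ sys.defOk 19 = true := by decide +kernel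

theorem pair20 : sys.pairOk 20 = true ∧ sys.defOk 20 = true := by decide +kernel

theorem pair21 : sys.pairOk 21 = true ∧ sys.defOk 21 = true := by decide +kernel

theorem pair22 : sys.pairOk 22 = true ∧ sys.defOk 22 = true := by decide +kernel

theorem pair23 : sys.pairOk 23 = true ∧ sys.defOk 23 = true := by decide +kernel

theorem pair24 : sys.pairOk 24 = true ∧ sys.defOk 24 = true := by decide +kernel

theorem pair25 : sys.pairOk 25 = true ∧ sys.defOk 25 = true := by decide +kernel

theorem pair26 : sys.pairOk 26 = true ∧ sys.defOk 26 = true := by decide +kernel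

theorem pair27 : sys.pairOk 27 = true ∧ sys.defOk 27 = true := by decide +kernel

theorem pair28 : sys.pairOk 28 = true ∧ sys.defOk 28 = true := by decide +kernel

theorem pair29 : sys.pairOk 29 = true ∧ sys.defOk 29 = true := by decide +kernel

theorem pair30 : sys.pairOk 30 = true ∧ sys.defOk 30 = true := by decide +kernel

theorem pair31 : sys.pairOk 31 = true ∧ sys.defOk 31 = true := by decide +kernel

theorem pair32 : sys.pairOk 32 = true ∧ sys.defOk 32 = true := by decide +kernel

theorem pair33 : sys.pairOk 33 = true ∧ sys.defOk 33 = true := by decide +kernel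

theorem pair34 : sys.pairOk 34 = true ∧ sys.defOk 34 = true := by decide +kernel

theorem pairs0 : ∀ k, 0 ≤ k → k < 35 → sys.pairOk k = true ∧ sys.defOk k = true := by
  intro k h1 h2
  interval_cases k
  · exact pair0
  · exact pair1
  · exact pair2
  · exact pair3
  · exact pair4
  · exact pair5
  · exact pair6
  · exact pair7
  · exact pair8
  · exact pair9
  · exact pair10
  · exact pair11
  · exact pair12
  · exact pair13
  · exact pair14
  · exact pair15
  · exact pair16
  · exact pair17
  · exact pair18
  · exact pair19
  · exact pair20
  · exact pair21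
  · exact pair22
  · exact pair23
  · exact pair24
  · exact pair25
  · exact pair26
  · exact pair27
  · exact pair28
  · exact pair29
  · exact pair30
  · exact pair31
  · exact pair32
  · exact pair33
  · exact pair34

end Cfsg.Agent.RudPerm.Data
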