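import Cfsg.Agent.Lib.RudPerm.Data

/-!
# Tables checked, part 1
-/

set_option autoImplicit false
set_option maxRecDepth 40000
set_option maxHeartbeats 0

namespace Cfsg.Agent.RudPerm.Data

theorem pair35 : sys.pairOk 35 = true ∧ sys.defOk 35 = true := by decide +kernel

theorem pair36 : sys.pairOk 36 = true ∧ sys.defOk 36 = true := by decide +kernel

theorem pair37 : sys.pairOk 37 = true ∧ sys.defOk 37 = true := by decide +kernel

theorem pair38 : sys.pairOk 38 = true ∧ sys.defOk 38 = true := by decide +kernel

theorem pair39 : sys.pairOk 39 = true ∧ sys.defOk 39 = true := by decide +kernel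

theorem pair40 : sys.pairOk 40 = true ∧ sys.defOk 40 = true := by decide +kernel

theorem pair41 : sys.pairOk 41 = true ∧ sys.defOk 41 = true := by decide +kernel

theorem pair42 : sys.pairOk 42 = true ∧ sys.defOk 42 = true := by decide +kernel

theorem pair43 : sys.pairOk 43 = true ∧ sys.defOk 43 = true := by decide +kernel

theorem pair44 : sys.pairOk 44 = true ∧ sys.defOk 44 = true := by decide +kernel

theorem pair45 : sys.pairOk 45 = true ∧ sys.defOk 45 = true := by decide +kernel

theorem pair46 : sys.pairOk 46 = true ∧ sys.defOk 46 = true := by decide +kernel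

theorem pair47 : sys.pairOk 47 = true ∧ sys.defOk 47 = true := by decide +kernel

theorem pair48 : sys.pairOk 48 = true ∧ sys.defOk 48 = true := by decide +kernel

theorem pair49 : sys.pairOk 49 = true ∧ sys.defOk 49 = true := by decide +kernel

theorem pair50 : sys.pairOk 50 = true ∧ sys.defOk 50 = true := by decide +kernel

theorem pair51 : sys.pairOk 51 = true ∧ sys.defOk 51 = true := by decide +kernel

theorem pair52 : sys.pairOk 52 = true ∧ sys.defOk 52 = true := by decide +kernel

theorem pair53 : sys.pairOk 53 = true ∧ sys.defOk 53 = true := by decide +kernel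

theorem pair54 : sys.pairOk 54 = true ∧ sys.defOk 54 = true := by decide +kernel

theorem pair55 : sys.pairOk 55 = true ∧ sys.defOk 55 = true := by decide +kernel

theorem pair56 : sys.pairOk 56 = true ∧ sys.defOk 56 = true := by decide +kernel

theorem pair57 : sys.pairOk 57 = true ∧ sys.defOk 57 = true := by decide +kernel

theorem pair58 : sys.pairOk 58 = true ∧ sys.defOk 58 = true := by decide +kernel

theorem pair59 : sys.pairOk 59 = true ∧ sys.defOk 59 = true := by decide +kernel

theorem pair60 : sys.pairOk 60 = true ∧ sys.defOk 60 = true := by decide +kernel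

theorem pair61 : sys.pairOk 61 = true ∧ sys.defOk 61 = true := by decide +kernel

theorem pair62 : sys.pairOk 62 = true ∧ sys.defOk 62 = true := by decide +kernel

theorem pair63 : sys.pairOk 63 = true ∧ sys.defOk 63 = true := by decide +kernel

theorem pair64 : sys.pairOk 64 = true ∧ sys.defOk 64 = true := by decide +kernel

theorem pair65 : sys.pairOk 65 = true ∧ sys.defOk 65 = true := by decide +kernel

theorem pair66 : sys.pairOk 66 = true ∧ sys.defOk 66 = true := by decide +kernel

theorem pair67 : sys.pairOk 67 = true ∧ sys.defOk 67 = true := by decide +kernel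

theorem pair68 : sys.pairOk 68 = true ∧ sys.defOk 68 = true := by decide +kernel

theorem pair69 : sys.pairOk 69 = true ∧ sys.defOk 69 = true := by decide +kernel

theorem pairs1 : ∀ k, 35 ≤ k → k < 70 → sys.pairOk k = true ∧ sys.defOk k = true := by
  intro k h1 h2
  interval_cases k
  · exact pair35
  · exact pair36
  · exact pair37
  · exact pair38
  · exact pair39
  · exact pair40
  · exact pair41
  · exact pair42
  · exact pair43
  · exact pair44
  · exact pair45
  · exact pair46
  · exact pair47
  · exact pair48
  · exact pair49
  · exact pair50
  · exact pair51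
  · exact pair52
  · exact pair53
  · exact pair54
  · exact pair55
  · exact pair56
  · exact pair57
  · exact pair58
  · exact pair59
  · exact pair60
  · exact pair61
  · exact pair62
  · exact pair63
  · exact pair64
  · exact pair65
  · exact pair66
  · exact pair67
  · exact pair68
  · exact pair69

end Cfsg.Agent.RudPerm.Data
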