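import Cfsg.Agent.Lib.RudPerm.Data

/-!
# Tables checked, part 2
-/

set_option autoImplicit false
set_option maxRecDepth 40000
set_option maxHeartbeats 0

namespace Cfsg.Agent.RudPerm.Data

theorem pair70 : sys.pairOk 70 = true ∧ sys.defOk 70 = true := by decide +kernel

theorem pair71 : sys.pairOk 71 = true ∧ sys.defOk 71 = true := by decide +kernel

theorem pair72 : sys.pairOk 72 = true ∧ sys.defOk 72 = true := by decide +kernel

theorem pair73 : sys.pairOk 73 = true ∧ sys.defOk 73 = true := by decide +kernel

theorem pair74 : sys.pairOk 74 = true ∧ sys.defOk 74 = true := by decide +kernel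

theorem pair75 : sys.pairOk 75 = true ∧ sys.defOk 75 = true := by decide +kernel

theorem pair76 : sys.pairOk 76 = true ∧ sys.defOk 76 = true := by decide +kernel

theorem pair77 : sys.pairOk 77 = true ∧ sys.defOk 77 = true := by decide +kernel

theorem pair78 : sys.pairOk 78 = true ∧ sys.defOk 78 = true := by decide +kernel

theorem pair79 : sys.pairOk 79 = true ∧ sys.defOk 79 = true := by decide +kernel

theorem pair80 : sys.pairOk 80 = true ∧ sys.defOk 80 = true := by decide +kernel

theorem pair81 : sys.pairOk 81 = true ∧ sys.defOk 81 = true := by decide +kernel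

theorem pair82 : sys.pairOk 82 = true ∧ sys.defOk 82 = true := by decide +kernel

theorem pair83 : sys.pairOk 83 = true ∧ sys.defOk 83 = true := by decide +kernel

theorem pair84 : sys.pairOk 84 = true ∧ sys.defOk 84 = true := by decide +kernel

theorem pair85 : sys.pairOk 85 = true ∧ sys.defOk 85 = true := by decide +kernel

theorem pair86 : sys.pairOk 86 = true ∧ sys.defOk 86 = true := by decide +kernel

theorem pair87 : sys.pairOk 87 = true ∧ sys.defOk 87 = true := by decide +kernel

theorem pair88 : sys.pairOk 88 = true ∧ sys.defOk 88 = true := by decide +kernel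

theorem pair89 : sys.pairOk 89 = true ∧ sys.defOk 89 = true := by decide +kernel

theorem pair90 : sys.pairOk 90 = true ∧ sys.defOk 90 = true := by decide +kernel

theorem pair91 : sys.pairOk 91 = true ∧ sys.defOk 91 = true := by decide +kernel

theorem pair92 : sys.pairOk 92 = true ∧ sys.defOk 92 = true := by decide +kernel

theorem pair93 : sys.pairOk 93 = true ∧ sys.defOk 93 = true := by decide +kernel

theorem pair94 : sys.pairOk 94 = true ∧ sys.defOk 94 = true := by decide +kernel

theorem pair95 : sys.pairOk 95 = true ∧ sys.defOk 95 = true := by decide +kernel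

theorem pair96 : sys.pairOk 96 = true ∧ sys.defOk 96 = true := by decide +kernel

theorem pair97 : sys.pairOk 97 = true ∧ sys.defOk 97 = true := by decide +kernel

theorem pair98 : sys.pairOk 98 = true ∧ sys.defOk 98 = true := by decide +kernel

theorem pair99 : sys.pairOk 99 = true ∧ sys.defOk 99 = true := by decide +kernel

theorem pair100 : sys.pairOk 100 = true ∧ sys.defOk 100 = true := by decide +kernel

theorem pair101 : sys.pairOk 101 = true ∧ sys.defOk 101 = true := by decide +kernel

theorem pair102 : sys.pairOk 102 = true ∧ sys.defOk 102 = true := by decide +kernel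

theorem pair103 : sys.pairOk 103 = true ∧ sys.defOk 103 = true := by decide +kernel

theorem pair104 : sys.pairOk 104 = true ∧ sys.defOk 104 = true := by decide +kernel

theorem pairs2 : ∀ k, 70 ≤ k → k < 105 → sys.pairOk k = true ∧ sys.defOk k = true := by
  intro k h1 h2
  interval_cases k
  · exact pair70
  · exact pair71
  · exact pair72
  · exact pair73
  · exact pair74
  · exact pair75
  · exact pair76
  · exact pair77
  · exact pair78
  · exact pair79
  · exact pair80
  · exact pair81
  · exact pair82
  · exact pair83
  · exact pair84
  · exact pair85
  · exact pair86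
  · exact pair87
  · exact pair88
  · exact pair89
  · exact pair90
  · exact pair91
  · exact pair92
  · exact pair93
  · exact pair94
  · exact pair95
  · exact pair96
  · exact pair97
  · exact pair98
  · exact pair99
  · exact pair100
  · exact pair101
  · exact pair102
  · exact pair103
  · exact pair104

end Cfsg.Agent.RudPerm.Data
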