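import Cfsg.Agent.Lib.RudPerm.Data

/-!
# Tables checked, part 3
-/

set_option autoImplicit false
set_option maxRecDepth 40000
set_option maxHeartbeats 0

namespace Cfsg.Agent.RudPerm.Data

theorem pair105 : sys.pairOk 105 = true ∧ sys.defOk 105 = true := by decide +kernel

theorem pair106 : sys.pairOk 106 = true ∧ sys.defOk 106 = true := by decide +kernel

theorem pair107 : sys.pairOk 107 = true ∧ sys.defOk 107 = true := by decide +kernel

theorem pair108 : sys.pairOk 108 = true ∧ sys.defOk 108 = true := by decide +kernel

theorem pair109 : sys.pairOk 109 = true ∧ sys.defOk 109 = true := by decide +kernel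

theorem pair110 : sys.pairOk 110 = true ∧ sys.defOk 110 = true := by decide +kernel

theorem pair111 : sys.pairOk 111 = true ∧ sys.defOk 111 = true := by decide +kernel

theorem pair112 : sys.pairOk 112 = true ∧ sys.defOk 112 = true := by decide +kernel

theorem pair113 : sys.pairOk 113 = true ∧ sys.defOk 113 = true := by decide +kernel

theorem pair114 : sys.pairOk 114 = true ∧ sys.defOk 114 = true := by decide +kernel

theorem pair115 : sys.pairOk 115 = true ∧ sys.defOk 115 = true := by decide +kernel

theorem pair116 : sys.pairOk 116 = true ∧ sys.defOk 116 = true := by decide +kernel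

theorem pair117 : sys.pairOk 117 = true ∧ sys.defOk 117 = true := by decide +kernel

theorem pair118 : sys.pairOk 118 = true ∧ sys.defOk 118 = true := by decide +kernel

theorem pair119 : sys.pairOk 119 = true ∧ sys.defOk 119 = true := by decide +kernel

theorem pair120 : sys.pairOk 120 = true ∧ sys.defOk 120 = true := by decide +kernel

theorem pair121 : sys.pairOk 121 = true ∧ sys.defOk 121 = true := by decide +kernel

theorem pair122 : sys.pairOk 122 = true ∧ sys.defOk 122 = true := by decide +kernel

theorem pair123 : sys.pairOk 123 = true ∧ sys.defOk 123 = true := by decide +kernel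

theorem pair124 : sys.pairOk 124 = true ∧ sys.defOk 124 = true := by decide +kernel

theorem pair125 : sys.pairOk 125 = true ∧ sys.defOk 125 = true := by decide +kernel

theorem pair126 : sys.pairOk 126 = true ∧ sys.defOk 126 = true := by decide +kernel

theorem pair127 : sys.pairOk 127 = true ∧ sys.defOk 127 = true := by decide +kernel

theorem pair128 : sys.pairOk 128 = true ∧ sys.defOk 128 = true := by decide +kernel

theorem pair129 : sys.pairOk 129 = true ∧ sys.defOk 129 = true := by decide +kernel

theorem pair130 : sys.pairOk 130 = true ∧ sys.defOk 130 = true := by decide +kernel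

theorem pair131 : sys.pairOk 131 = true ∧ sys.defOk 131 = true := by decide +kernel

theorem pair132 : sys.pairOk 132 = true ∧ sys.defOk 132 = true := by decide +kernel

theorem pair133 : sys.pairOk 133 = true ∧ sys.defOk 133 = true := by decide +kernel

theorem pair134 : sys.pairOk 134 = true ∧ sys.defOk 134 = true := by decide +kernel

theorem pair135 : sys.pairOk 135 = true ∧ sys.defOk 135 = true := by decide +kernel

theorem pair136 : sys.pairOk 136 = true ∧ sys.defOk 136 = true := by decide +kernel

theorem pair137 : sys.pairOk 137 = true ∧ sys.defOk 137 = true := by decide +kernel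

theorem pair138 : sys.pairOk 138 = true ∧ sys.defOk 138 = true := by decide +kernel

theorem pair139 : sys.pairOk 139 = true ∧ sys.defOk 139 = true := by decide +kernel

theorem pairs3 : ∀ k, 105 ≤ k → k < 140 → sys.pairOk k = true ∧ sys.defOk k = true := by
  intro k h1 h2
  interval_cases k
  · exact pair105
  · exact pair106
  · exact pair107
  · exact pair108
  · exact pair109
  · exact pair110
  · exact pair111
  · exact pair112
  · exact pair113
  · exact pair114
  · exact pair115
  · exact pair116
  · exact pair117
  · exact pair118
  · exact pair119
  · exact pair120
  · exact pair121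
  · exact pair122
  · exact pair123
  · exact pair124
  · exact pair125
  · exact pair126
  · exact pair127
  · exact pair128
  · exact pair129
  · exact pair130
  · exact pair131
  · exact pair132
  · exact pair133
  · exact pair134
  · exact pair135
  · exact pair136
  · exact pair137
  · exact pair138
  · exact pair139

end Cfsg.Agent.RudPerm.Data
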