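import Cfsg.Agent.Lib.RudPerm.Group

/-!
# A point stabiliser from double cosets
-/

set_option autoImplicit false
set_option maxRecDepth 20000

namespace Cfsg.Agent.RudPerm

open Cfsg.Agent.Enum (allRange allRange_spec field)

/-- A suborbit: point, representative, orbit, its stabiliser with lower bound and witnesses. -/
structure Rep where
  b : ℕ
  r : List ℕ
  F : Forest
  dg : List ℕ
  low : List Level
  wit : List (List ℕ)

/-- A root of the covering forest: orbit, point, witnesses. -/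
structure Root where
  j : ℕ
  x : ℕ
  k : List ℕ
  l : ℕ
  k1 : List ℕ
  k2 : List ℕ

/-- The data: the big and small group, the extra element and its inverse. -/
structure DC where
  Ug : List ℕ
  Kg : List ℕ
  t : ℕ
  a : ℕ
  m : ℕ
  n : ℕ
  reps : List Rep
  C : List ℕ
  cw : List (List ℕ)
  roots : List Root
  F : Forest
  back : List (List ℕ)

/-- The inverse word. -/
def winv (w : List ℕ) : List ℕ := (w.map fun i => bif Nat.beq (i % 2) 0 then i + 1 else i - 1).reverse

def witOk (S : Sys) (Kg r : List ℕ) : List ℕ → List (List ℕ) → Bool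
  | [], _ => true
  | _ :: _, [] => false
  | d :: ds, w :: ws => inB S Kg w && S.same (d :: r) (r ++ w) && witOk S Kg r ds ws

def repOk (S : Sys) (D : DC) (R : Rep) : Bool :=
  Nat.blt R.b 4060 && inB S D.Ug R.r && Nat.beq (S.run R.r D.a) R.b && R.F.ok S D.Kg [R.b] &&
    R.F.closed S D.Kg && !Nat.beq (R.F.posn R.b) 0 &&
    inB S D.Kg R.dg && R.dg.all (fun d => Nat.beq (S.img d R.b) R.b) &&
    lowOk S R.dg R.low && Nat.ble D.m (lowProd R.low * R.F.n) &&
    witOk S D.Kg R.r R.dg R.wit && (!Nat.beq R.b D.a || inB S D.Kg R.r)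

def cwOk (S : Sys) (Kg : List ℕ) (t : ℕ) : List ℕ → List (List ℕ) → Bool
  | [], _ => true
  | _ :: _, [] => false
  | c :: cs, w :: ws => inB S Kg w && S.same [t, c] (w ++ [t]) && cwOk S Kg t cs ws

def rep? (D : DC) (j : ℕ) : Rep := D.reps.getD j ⟨0, [], ⟨0, 0, 0⟩, [], [], []⟩

def rootOk (S : Sys) (D : DC) (R : Root) : Bool :=
  Nat.blt R.j D.reps.length && Nat.blt R.l D.reps.length && inB S D.Kg R.k && inB S D.Kg R.k1 &&
    inB S D.Kg R.k2 && Nat.beq (S.run R.k (rep? D R.j).b) R.x &&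
    !Nat.beq ((rep? D R.j).F.posn R.x) 0 &&
    S.same (D.t :: R.k ++ (rep? D R.j).r) (R.k1 ++ ((rep? D R.l).r ++ R.k2))

/-- Number of suborbits containing a point. -/
def occ (reps : List Rep) (x : ℕ) : ℕ :=
  reps.foldr (fun R s => (bif Nat.beq (R.F.posn x) 0 then 0 else 1) + s) 0

def dcOk (S : Sys) (D : DC) : Bool :=
  Nat.blt D.a 4060 && inB S D.Ug D.Kg && inB S D.Ug [D.t] && inclOk S D.Ug (D.Kg ++ [D.t]) D.back &&
    D.Kg.all (fun k => Nat.beq (S.img k D.a) D.a) &&
    Nat.beq (rep? D 0).b D.a && Nat.beq D.reps.length.succ (D.reps.length + 1) &&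
    !D.reps.isEmpty && (rep? D 0).r.isEmpty &&
    D.reps.all (repOk S D) && inB S D.Kg D.C && cwOk S D.Kg D.t D.C D.cw &&
    D.roots.all (rootOk S D) && D.F.ok S D.C (D.roots.map Root.x) &&
    Nat.beq D.F.n D.n &&
    allRange (fun x => Nat.beq (occ D.reps x) (bif Nat.beq (D.F.posn x) 0 then 0 else 1)) 32 0 4060

/-- What the certificate gives. -/
structure DC.Spec (S : Sys) (D : DC) : Prop where
  stab : ∀ g, g ∈ S.cl D.Ug → ((g (Fin.ofNat 4060 D.a) = Fin.ofNat 4060 D.a) ↔ g ∈ S.cl D.Kg)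
  orbit : D.F.set = {x | ∃ g ∈ S.cl D.Ug, g (Fin.ofNat 4060 D.a) = x}
  card : Nat.card (S.cl D.Ug) = D.n * D.m
  le : S.cl D.Kg ≤ S.cl D.Ug
  sub : ∀ R ∈ D.reps, ∃ b : Pt, (b : ℕ) = R.b ∧ R.F.set = {x | ∃ g ∈ S.cl D.Kg, g b = x} ∧
    R.F.set ⊆ D.F.set ∧ R.F.set.ncard = R.F.n
  cover : ∀ x ∈ D.F.set, ∃ j < D.reps.length, x ∈ (rep? D j).F.set
  disj : ∀ i < D.reps.length, ∀ j < D.reps.length, ∀ x, x ∈ (rep? D i).F.set → x ∈ (rep? D j).F.set → i = j

theorem rep?_mem {D : DC} {j : ℕ} (h : j < D.reps.length) : rep? D j ∈ D.reps := by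
  rw [rep?, List.getD_eq_getElem _ _ h]; exact List.getElem_mem _

theorem occ_zero {x : Pt} : ∀ {reps : List Rep}, occ reps x = 0 → ∀ R ∈ reps, x ∉ R.F.set
  | [], _, R, hR => by simp at hR
  | A :: As, h, R, hR => by
    simp only [occ, List.foldr_cons] at h
    cases c : Nat.beq (A.F.posn x) 0 with
    | false => simp [c] at h
    | true =>
      simp only [c, cond_true, Nat.zero_add] at h
      rcases List.mem_cons.1 hR with rfl | hR
      · exact fun hx => hx (Nat.eq_of_beq_eq_true c)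
      · exact occ_zero h R hR

theorem occ_one {x : Pt} : ∀ {reps : List Rep}, occ reps x = 1 →
    ∀ i < reps.length, ∀ j < reps.length, ∀ d, x ∈ (reps.getD i d).F.set → x ∈ (reps.getD j d).F.set → i = j
  | [], _, i, hi, _, _, _, _, _ => by simp at hi
  | A :: As, h, i, hi, j, hj, d, hxi, hxj => by
    simp only [occ, List.foldr_cons] at h
    cases c : Nat.beq (A.F.posn x) 0 with
    | false =>
      simp only [c, cond_false] at h
      have h0 : occ As x = 0 := by simp only [occ]; omega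
      have hz : ∀ k, k + 1 < (A :: As).length → x ∈ ((A :: As).getD (k + 1) d).F.set → False := fun k hk hx => by
        rw [List.getD_cons_succ, List.getD_eq_getElem _ _ (by simpa using hk)] at hx
        exact occ_zero h0 _ (List.getElem_mem _) hx
      cases i with
      | zero => cases j with
        | zero => rfl
        | succ j => exact (hz j hj hxj).elim
      | succ i => exact (hz i hi hxi).elim
    | true =>
      simp only [c, cond_true, Nat.zero_add] at h
      have hA : x ∉ A.F.set := fun hx => hx (Nat.eq_of_beq_eq_true c)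
      cases i with
      | zero => exact absurd hxi (by simpa using hA)
      | succ i => cases j with
        | zero => exact absurd hxj (by simpa using hA)
        | succ j =>
          simp only [List.getD_cons_succ] at hxi hxj
          exact congrArg Nat.succ (occ_one h i (by simpa using hi) j (by simpa using hj) d hxi hxj)

theorem occ_pos {x : Pt} : ∀ {reps : List Rep}, occ reps x ≠ 0 → ∃ j < reps.length, ∀ d, x ∈ (reps.getD j d).F.set
  | [], h => by simp [occ] at h
  | A :: As, h => by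
    cases c : Nat.beq (A.F.posn x) 0 with
    | false => exact ⟨0, by simp, fun d => by simpa [Forest.set] using Nat.ne_of_beq_eq_false c⟩
    | true =>
      simp only [occ, List.foldr_cons, c, cond_true, Nat.zero_add] at h
      obtain ⟨j, hj, hjx⟩ := occ_pos (x := x) (reps := As) h
      exact ⟨j + 1, by simpa using hj, fun d => by simpa using hjx d⟩

theorem witOk_spec {S : Sys} (G : S.Good) {Kg r : List ℕ} : ∀ {ds : List ℕ} {ws : List (List ℕ)},
    witOk S Kg r ds ws = true → ∀ d ∈ ds, (S.ev r)⁻¹ * S.el d * S.ev r ∈ S.cl Kg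
  | [], _, _, d, hd => by simp at hd
  | _ :: _, [], h, _, _ => by simp [witOk] at h
  | a :: ds, w :: ws, h, d, hd => by
    simp only [witOk, Bool.and_eq_true] at h
    rcases List.mem_cons.1 hd with rfl | hd
    · have e := G.same_spec h.1.2
      rw [Sys.ev_cons, Sys.ev_append] at e
      rw [mul_assoc, e, inv_mul_cancel_left]
      exact inB_mem G h.1.1
    · exact witOk_spec G h.2 d hd

theorem cwOk_spec {S : Sys} (G : S.Good) {Kg : List ℕ} {t : ℕ} : ∀ {cs : List ℕ} {ws : List (List ℕ)},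
    cwOk S Kg t cs ws = true → ∀ c ∈ cs, S.el t * S.el c * (S.el t)⁻¹ ∈ S.cl Kg
  | [], _, _, d, hd => by simp at hd
  | _ :: _, [], h, _, _ => by simp [cwOk] at h
  | a :: cs, w :: ws, h, c, hc => by
    simp only [cwOk, Bool.and_eq_true] at h
    rcases List.mem_cons.1 hc with rfl | hc
    · have e := G.same_spec h.1.2
      rw [Sys.ev_cons, Sys.ev_singleton, Sys.ev_append, Sys.ev_singleton] at e
      rw [e, mul_inv_cancel_right]
      exact inB_mem G h.1.1
    · exact cwOk_spec G h.2 c hc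

/-- The certificate is sound. -/
theorem dc_spec {S : Sys} (G : S.Good) {D : DC} (h : dcOk S D = true)
    (hm : Nat.card (S.cl D.Kg) = D.m) : D.Spec S := by
  simp only [dcOk, Bool.and_eq_true, List.all_eq_true, Nat.blt, Nat.ble_eq] at h
  obtain ⟨⟨⟨⟨⟨⟨⟨⟨⟨⟨⟨⟨⟨⟨⟨ha, hKU⟩, htU⟩, hback⟩, hfix⟩, hb0⟩, -⟩, hne⟩, hr0⟩, hreps⟩, hC⟩, hcw⟩, hroots⟩, hF⟩, hn⟩, hocc⟩ := h
  replace hn := Nat.eq_of_beq_eq_true hn
  set a : Pt := Fin.ofNat 4060 D.a with ha'
  have hav : (a : ℕ) = D.a := Nat.mod_eq_of_lt ha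
  set K := S.cl D.Kg with hKdef
  set H := S.cl D.Ug with hHdef
  set t := S.el D.t
  have hKH : K ≤ H := cl_le_of_mem fun k hk => (inB_spec G hKU).2 k hk
  have htH : t ∈ H := (inB_spec G htU).2 _ (by simp)
  have hKa : ∀ k ∈ K, k a = a := by
    have hle : K ≤ MulAction.stabilizer (Equiv.Perm Pt) a := by
      refine cl_le_of_mem fun k hk => ?_
      rw [MulAction.mem_stabilizer_iff, Equiv.Perm.smul_def]
      have hlt := List.all_eq_true.1 (inB_spec G hKU).1 k hk
      simp only [Nat.blt, Nat.ble_eq] at hlt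
      refine Fin.ext ?_
      rw [Sys.el_val G.valid (by omega : k < 2 * S.npair), hav]
      exact Nat.eq_of_beq_eq_true (hfix k hk)
    exact fun k hk => MulAction.mem_stabilizer_iff.1 (hle hk)
  have hR : ∀ R ∈ D.reps, ∃ b : Pt, (b : ℕ) = R.b ∧ R.F.set = {x | ∃ g ∈ K, g b = x} ∧
      S.ev R.r a = b ∧ S.ev R.r ∈ H ∧ R.F.set.ncard = R.F.n ∧
      (∀ k ∈ K, k b = b → (S.ev R.r)⁻¹ * k * S.ev R.r ∈ K) ∧ (R.b = D.a → S.ev R.r ∈ K) := by
    intro R hR
    have h := hreps R hR
    simp only [repOk, Bool.and_eq_true, Nat.blt, Nat.ble_eq, List.all_eq_true, Bool.or_eq_true,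
      Bool.not_eq_true'] at h
    obtain ⟨⟨⟨⟨⟨⟨⟨⟨⟨⟨⟨hb, hrU⟩, hrb⟩, hok⟩, hcl⟩, hpos⟩, hdK⟩, hdfix⟩, hlow⟩, hmle⟩, hwit⟩, hra⟩ := h
    let b : Pt := ⟨R.b, hb⟩
    have hbs : b ∈ R.F.set := by
      simp only [Forest.set, Set.mem_ofPred_eq, b]
      exact Nat.ne_of_beq_eq_false hpos
    have ho := Forest.orbit_eq G (b := b) hok hcl hbs
    have hnc := Forest.ncard_set hok
    refine ⟨b, rfl, ho, Fin.ext ?_, inB_mem G hrU, hnc, ?_, fun he => ?_⟩
    · rw [Sys.ev_val G.valid (inB_spec G hrU).1, hav]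
      exact Nat.eq_of_beq_eq_true hrb
    · intro k hk hkb
      have hcs := card_stab K b
      rw [← ho, hnc, hm] at hcs
      have hle : S.cl R.dg ≤ K ⊓ MulAction.stabilizer (Equiv.Perm Pt) b := by
        refine cl_le_of_mem fun d hd => ⟨(inB_spec G hdK).2 d hd, ?_⟩
        show S.el d ∈ MulAction.stabilizer (Equiv.Perm Pt) b
        rw [MulAction.mem_stabilizer_iff, Equiv.Perm.smul_def]
        have hlt := List.all_eq_true.1 (inB_spec G hdK).1 d hd
        simp only [Nat.blt, Nat.ble_eq] at hlt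
        refine Fin.ext ?_
        rw [Sys.el_val G.valid (by omega : d < 2 * S.npair)]
        exact Nat.eq_of_beq_eq_true (hdfix d hd)
      have hlp := low_le G hlow
      have hpos' : 0 < R.F.n := by
        rw [← hnc]; exact (Set.ncard_pos (Set.toFinite _)).2 ⟨b, hbs⟩
      have heq : S.cl R.dg = K ⊓ MulAction.stabilizer (Equiv.Perm Pt) b := by
        refine Subgroup.eq_of_le_of_card_ge hle ?_
        refine Nat.le_of_mul_le_mul_left ?_ hpos'
        rw [hcs]
        exact le_trans hmle (by rw [mul_comm]; exact Nat.mul_le_mul_left _ hlp)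
      have hk' : k ∈ S.cl R.dg := heq ▸ ⟨hk, MulAction.mem_stabilizer_iff.2 hkb⟩
      have hsub : S.cl R.dg ≤ K.comap (MulAut.conj (S.ev R.r)⁻¹).toMonoidHom := by
        refine cl_le_of_mem fun d hd => ?_
        rw [Subgroup.mem_comap, MulEquiv.coe_toMonoidHom, MulAut.conj_apply, inv_inv]
        exact witOk_spec G hwit d hd
      have h' := hsub hk'
      rw [Subgroup.mem_comap, MulEquiv.coe_toMonoidHom, MulAut.conj_apply, inv_inv] at h'
      exact h'
    · rcases hra with hra | hra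
      · exact absurd he (Nat.ne_of_beq_eq_false hra)
      · exact inB_mem G hra
  have hocc' : ∀ x : Pt, occ D.reps x = (bif Nat.beq (D.F.posn x) 0 then 0 else 1) := fun x =>
    Nat.eq_of_beq_eq_true (allRange_spec 32 0 4060 hocc x.val (Nat.zero_le _) (by omega))
  have hsubF : ∀ R ∈ D.reps, R.F.set ⊆ D.F.set := by
    intro R hR x hx he
    have h0 := hocc' x
    rw [he] at h0
    exact occ_zero h0 R hR hx
  have hdisj : ∀ i < D.reps.length, ∀ j < D.reps.length, ∀ x, x ∈ (rep? D i).F.set →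
      x ∈ (rep? D j).F.set → i = j := fun i hi j hj x hxi hxj => by
    have h0 := hocc' x
    cases c : Nat.beq (D.F.posn x) 0 with
    | true => exact absurd hxi (occ_zero (by simpa [c] using h0) _ (rep?_mem hi))
    | false => exact occ_one (by simpa [c] using h0) i hi j hj _ hxi hxj
  have hcover : ∀ x ∈ D.F.set, ∃ j < D.reps.length, x ∈ (rep? D j).F.set := fun x hx => by
    have h0 := hocc' x
    cases c : Nat.beq (D.F.posn x) 0 with
    | true => exact absurd (Nat.eq_of_beq_eq_true c) hx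
    | false =>
      obtain ⟨j, hj, hjx⟩ := occ_pos (x := x) (reps := D.reps) (by rw [h0, c]; simp)
      exact ⟨j, hj, hjx _⟩
  -- the union of the double cosets
  let U : Set (Equiv.Perm Pt) := {g | ∃ j < D.reps.length, ∃ k ∈ K, ∃ k' ∈ K, g = k * S.ev (rep? D j).r * k'}
  have hUK : ∀ k ∈ K, ∀ g ∈ U, k * g ∈ U := by
    rintro k hk _ ⟨j, hj, k1, h1, k2, h2, rfl⟩
    exact ⟨j, hj, k * k1, mul_mem hk h1, k2, h2, by simp [mul_assoc]⟩
  have hUK' : ∀ k ∈ K, ∀ g ∈ U, g * k ∈ U := by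
    rintro k hk _ ⟨j, hj, k1, h1, k2, h2, rfl⟩
    exact ⟨j, hj, k1, h1, k2 * k, mul_mem h2 hk, by simp [mul_assoc]⟩
  have hlen : 0 < D.reps.length := List.length_pos_of_ne_nil (by
    intro e; rw [e] at hne; exact Bool.noConfusion hne)
  have hU1 : (1 : Equiv.Perm Pt) ∈ U := by
    refine ⟨0, hlen, 1, one_mem _, 1, one_mem _, ?_⟩
    rw [List.isEmpty_iff.1 hr0]; simp [Sys.ev]
  -- the key property, carried along the covering forest
  let P : Pt → Prop := fun x => ∀ j < D.reps.length, x ∈ (rep? D j).F.set →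
    ∀ b : Pt, (b : ℕ) = (rep? D j).b → ∀ k ∈ K, k b = x → t * k * S.ev (rep? D j).r ∈ U
  have hroot : ∀ x : Pt, (x : ℕ) ∈ D.roots.map Root.x → x ∈ D.F.set → P x := by
    intro x hx _ j hj hxj b hb k hk hkb
    obtain ⟨R, hRm, hRx⟩ := List.mem_map.1 hx
    have hr := hroots R hRm
    simp only [rootOk, Bool.and_eq_true, Nat.blt, Nat.ble_eq, Bool.not_eq_true'] at hr
    obtain ⟨⟨⟨⟨⟨⟨⟨hRj, hRl⟩, hk0⟩, hk1⟩, hk2⟩, hkx⟩, hpos⟩, hsame⟩ := hr
    have hje : j = R.j := hdisj j hj R.j hRj x hxj (by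
      simp only [Forest.set, Set.mem_ofPred_eq, ← hRx]
      exact Nat.ne_of_beq_eq_false hpos)
    subst hje
    have hk0' : S.ev R.k b = x := Fin.ext (by
      rw [Sys.ev_val G.valid (inB_spec G hk0).1, hb, ← hRx]
      exact Nat.eq_of_beq_eq_true hkx)
    obtain ⟨b', hb', -, -, -, -, hconj, -⟩ := hR _ (rep?_mem hj)
    have hbb : b' = b := Fin.ext (hb'.trans hb.symm)
    subst hbb
    have hd : (S.ev (rep? D R.j).r)⁻¹ * ((S.ev R.k)⁻¹ * k) * S.ev (rep? D R.j).r ∈ K :=
      hconj _ (mul_mem (inv_mem (inB_mem G hk0)) hk)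
        (by rw [Equiv.Perm.mul_apply, hkb, ← hk0']; simp)
    have e := G.same_spec hsame
    rw [List.cons_append, Sys.ev_cons, Sys.ev_append, Sys.ev_append, Sys.ev_append] at e
    refine ⟨R.l, hRl, S.ev R.k1, inB_mem G hk1, _, mul_mem (inB_mem G hk2) hd, ?_⟩
    calc t * k * S.ev (rep? D R.j).r
        = (t * (S.ev R.k * S.ev (rep? D R.j).r)) *
          ((S.ev (rep? D R.j).r)⁻¹ * ((S.ev R.k)⁻¹ * k) * S.ev (rep? D R.j).r) := by group
      _ = _ := by rw [e]; group
  have hstep : ∀ c ∈ D.C, ∀ x : Pt, P x → P (S.el c x) := by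
    intro c hc x hP j hj hxj b hb k hk hkb
    have hcK : S.el c ∈ K := (inB_spec G hC).2 c hc
    obtain ⟨b', hb', ho, -⟩ := hR _ (rep?_mem hj)
    have hbb : b' = b := Fin.ext (hb'.trans hb.symm)
    subst hbb
    have hx' : x ∈ (rep? D j).F.set := by
      rw [ho]
      exact ⟨(S.el c)⁻¹ * k, mul_mem (inv_mem hcK) hk, by rw [Equiv.Perm.mul_apply, hkb]; simp⟩
    have h1 := hP j hj hx' b' hb ((S.el c)⁻¹ * k) (mul_mem (inv_mem hcK) hk)
      (by rw [Equiv.Perm.mul_apply, hkb]; simp)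
    have h2 := hUK _ (cwOk_spec G hcw c hc) _ h1
    convert h2 using 1
    show S.el D.t * k * _ = S.el D.t * S.el c * (S.el D.t)⁻¹ * (S.el D.t * ((S.el c)⁻¹ * k) * _)
    group
  have hU : ∀ g ∈ H, g ∈ U := by
    intro g hg
    have hle := inclOk_spec G hback
    refine mem_of_left_closed hU1 ?_ g (hle hg)
    rintro _ ⟨e, he, rfl⟩ u hu
    rcases List.mem_append.1 he with he | he
    · exact hUK _ (el_mem he) u hu
    · rw [List.mem_singleton] at he; subst he
      obtain ⟨j, hj, k, hk, k', hk', rfl⟩ := hu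
      obtain ⟨b, hb, ho, -⟩ := hR _ (rep?_mem hj)
      have hmem : k b ∈ (rep? D j).F.set := by rw [ho]; exact ⟨k, hk, rfl⟩
      have := Forest.induct G hF (P := P) hroot hstep (hsubF _ (rep?_mem hj) hmem) j hj hmem b hb k hk rfl
      simpa [mul_assoc, t] using hUK' k' hk' _ this
  have hstab : ∀ g, g ∈ H → ((g a = a) ↔ g ∈ K) := by
    intro g hg
    refine ⟨fun hga => ?_, hKa g⟩
    obtain ⟨j, hj, k, hk, k', hk', rfl⟩ := hU g hg
    obtain ⟨b, hb, -, hrb, -, -, -, hra⟩ := hR _ (rep?_mem hj)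
    rw [Equiv.Perm.mul_apply, Equiv.Perm.mul_apply, hKa k' hk', hrb] at hga
    have hba : b = a := k.injective (hga.trans (hKa k hk).symm)
    exact mul_mem (mul_mem hk (hra (by rw [← hb, hba, hav]))) hk'
  have horb : D.F.set = {x | ∃ g ∈ H, g a = x} := by
    ext x
    constructor
    · intro hx
      obtain ⟨j, hj, hjx⟩ := hcover x hx
      obtain ⟨b, -, ho, hrb, hrH, -⟩ := hR _ (rep?_mem hj)
      rw [ho] at hjx
      obtain ⟨k, hk, rfl⟩ := hjx
      exact ⟨k * S.ev (rep? D j).r, mul_mem (hKH hk) hrH, by rw [Equiv.Perm.mul_apply, hrb]⟩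
    · rintro ⟨g, hg, rfl⟩
      obtain ⟨j, hj, k, hk, k', hk', rfl⟩ := hU g hg
      obtain ⟨b, -, ho, hrb, -⟩ := hR _ (rep?_mem hj)
      rw [Equiv.Perm.mul_apply, Equiv.Perm.mul_apply, hKa k' hk', hrb]
      exact hsubF _ (rep?_mem hj) (by rw [ho]; exact ⟨k, hk, rfl⟩)
  have hcard : Nat.card H = D.n * D.m := by
    have e : H ⊓ MulAction.stabilizer (Equiv.Perm Pt) a = K := by
      ext g
      rw [Subgroup.mem_inf, MulAction.mem_stabilizer_iff, Equiv.Perm.smul_def]
      exact ⟨fun h => (hstab g h.1).1 h.2, fun h => ⟨hKH h, hKa g h⟩⟩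
    rw [← card_stab H a, e, hm, ← horb, Forest.ncard_set hF, hn]
  refine ⟨hstab, horb, hcard, hKH, fun R hR' => ?_, hcover, hdisj⟩
  obtain ⟨b, hb, ho, -, -, hnc, -⟩ := hR R hR'
  exact ⟨b, hb, ho, hsubF R hR', hnc⟩

end Cfsg.Agent.RudPerm
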