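import Mathlib
import Cfsg.Agent.Lib.Enum.Tree

/-!
# Certificates for groups of permutations of 4060 points induced by linear maps
-/

set_option autoImplicit false

namespace Cfsg.Agent.RudPerm

open Cfsg.Agent.Enum (allRange allRange_spec field)

abbrev Pt := Fin 4060

/-- Tables, definitions of the elements, coordinates and spanning points. -/
structure Sys where
  /-- image tables in blocks of sixteen, fields of 12 bits -/
  tabs : List (List ℕ)
  /-- words defining the elements of even index -/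
  defs : List (List ℕ)
  /-- coordinates of the points, fields of 28 bits -/
  pts : ℕ
  /-- spanning points -/
  sel : List ℕ

namespace Sys

def tab (S : Sys) (k : ℕ) : ℕ := (S.tabs.getD (k / 16) []).getD (k % 16) 0

def img (S : Sys) (k x : ℕ) : ℕ := field 12 (S.tab k) x

def run (S : Sys) : List ℕ → ℕ → ℕ
  | [], x => x
  | k :: w, x => S.img k (run S w x)

/-- The table pair `2k`, `2k+1` is a pair of inverse permutations. -/
def pairOk (S : Sys) (k : ℕ) : Bool :=
  allRange (fun x => Nat.blt (S.img (2 * k) x) 4060 && Nat.blt (S.img (2 * k + 1) x) 4060 &&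
    Nat.beq (S.img (2 * k + 1) (S.img (2 * k) x)) x) 32 0 4060

def runT : List ℕ → ℕ → ℕ
  | [], x => x
  | t :: ts, x => field 12 t (runT ts x)

/-- An element agrees with the word defining it. -/
def defOk (S : Sys) (k : ℕ) : Bool :=
  match S.defs.getD k [] with
  | [] => true
  | w => let ts := w.map S.tab
         allRange (fun x => Nat.beq (S.img (2 * k) x) (runT ts x)) 32 0 4060

def pairsOk (S : Sys) (lo len : ℕ) : Bool :=
  allRange (fun k => S.pairOk k && S.defOk k) 32 lo len

noncomputable def el (S : Sys) (i : ℕ) : Equiv.Perm Pt :=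
  if h : Function.Bijective (fun x : Pt => Fin.ofNat 4060 (S.img i x)) then Equiv.ofBijective _ h else 1

noncomputable def ev (S : Sys) (w : List ℕ) : Equiv.Perm Pt := (w.map S.el).prod

/-- The subgroup generated by some of the elements. -/
noncomputable def cl (S : Sys) (gens : List ℕ) : Subgroup (Equiv.Perm Pt) :=
  Subgroup.closure {g | ∃ i ∈ gens, S.el i = g}

/-- Number of pairs. -/
def npair (S : Sys) : ℕ := S.defs.length

/-- The tables and definitions are valid. -/
structure Valid (S : Sys) : Prop where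
  pair : ∀ k, k < S.npair → S.pairOk k = true
  defn : ∀ k, k < S.npair → S.defOk k = true

theorem ev_cons (S : Sys) (i : ℕ) (w : List ℕ) : S.ev (i :: w) = S.el i * S.ev w := by simp [ev]

theorem ev_append (S : Sys) (u v : List ℕ) : S.ev (u ++ v) = S.ev u * S.ev v := by simp [ev]

theorem ev_singleton (S : Sys) (i : ℕ) : S.ev [i] = S.el i := by simp [ev]

variable {S : Sys} (hv : S.Valid)
include hv

theorem pair_spec {k : ℕ} (hk : k < S.npair) (x : ℕ) (hx : x < 4060) :
    S.img (2 * k) x < 4060 ∧ S.img (2 * k + 1) x < 4060 ∧ S.img (2 * k + 1) (S.img (2 * k) x) = x := by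
  have h := allRange_spec 32 0 4060 (hv.pair k hk) x (Nat.zero_le _) (by omega)
  simp only [Bool.and_eq_true, Nat.blt, Nat.ble_eq] at h
  exact ⟨h.1.1, h.1.2, Nat.eq_of_beq_eq_true h.2⟩

theorem img_lt {i : ℕ} (hi : i < 2 * S.npair) (x : ℕ) (hx : x < 4060) : S.img i x < 4060 := by
  rcases Nat.even_or_odd' i with ⟨k, rfl | rfl⟩
  · exact (pair_spec hv (by omega) x hx).1
  · exact (pair_spec hv (by omega) x hx).2.1

theorem bij {i : ℕ} (hi : i < 2 * S.npair) :
    Function.Bijective (fun x : Pt => Fin.ofNat 4060 (S.img i x)) := by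
  rcases Nat.even_or_odd' i with ⟨k, rfl | rfl⟩
  · refine Finite.injective_iff_bijective.1 fun x y h => Fin.ext ?_
    have hx := pair_spec hv (show k < S.npair by omega) x x.2
    have hy := pair_spec hv (show k < S.npair by omega) y y.2
    have h' := congrArg Fin.val h
    simp only [Fin.val_ofNat, Nat.mod_eq_of_lt hx.1, Nat.mod_eq_of_lt hy.1] at h'
    rw [← hx.2.2, ← hy.2.2, h']
  · have hb : Function.Injective (fun x : Pt => Fin.ofNat 4060 (S.img (2 * k) x)) := by
      intro x y h
      have hx := pair_spec hv (show k < S.npair by omega) x x.2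
      have hy := pair_spec hv (show k < S.npair by omega) y y.2
      have h' := congrArg Fin.val h
      simp only [Fin.val_ofNat, Nat.mod_eq_of_lt hx.1, Nat.mod_eq_of_lt hy.1] at h'
      exact Fin.ext (by rw [← hx.2.2, ← hy.2.2, h'])
    refine Finite.surjective_iff_bijective.1 fun y => ?_
    have hy := pair_spec hv (show k < S.npair by omega) y y.2
    refine ⟨Fin.ofNat 4060 (S.img (2 * k) y), Fin.ext ?_⟩
    simp only [Fin.val_ofNat, Nat.mod_eq_of_lt hy.1, hy.2.2, Nat.mod_eq_of_lt y.2]

theorem el_val {i : ℕ} (hi : i < 2 * S.npair) (x : Pt) : (S.el i x : ℕ) = S.img i x := by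
  rw [el, dif_pos (bij hv hi), Equiv.ofBijective_apply, Fin.val_ofNat,
    Nat.mod_eq_of_lt (img_lt hv hi x x.2)]

theorem el_odd {k : ℕ} (hk : k < S.npair) : S.el (2 * k + 1) = (S.el (2 * k))⁻¹ := by
  refine eq_inv_of_mul_eq_one_left (Equiv.ext fun x => Fin.ext ?_)
  rw [Equiv.Perm.mul_apply, el_val hv (by omega), el_val hv (by omega)]
  exact (pair_spec hv hk x x.2).2.2

omit hv

/-- All letters of a word are in range. -/
def wOk (S : Sys) (w : List ℕ) : Bool := w.all fun i => Nat.blt i (2 * S.npair)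

include hv

theorem ev_val : ∀ {w : List ℕ}, S.wOk w = true → ∀ x : Pt, (S.ev w x : ℕ) = S.run w x
  | [], _, x => by simp [ev, run]
  | i :: w, h, x => by
    simp only [wOk, List.all_cons, Bool.and_eq_true, Nat.blt, Nat.ble_eq] at h
    rw [ev_cons, Equiv.Perm.mul_apply, el_val hv h.1, run, ev_val (w := w) h.2 x]

end Sys

theorem runT_map (S : Sys) : ∀ (w : List ℕ) (x : ℕ), Sys.runT (w.map S.tab) x = S.run w x
  | [], _ => rfl
  | _ :: w, x => by simp [Sys.runT, Sys.run, Sys.img, runT_map S w x]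

/-- The definitions only use elements in range. -/
def Sys.defsRange (S : Sys) : Bool := S.defs.all S.wOk

theorem el_def {S : Sys} (hv : S.Valid) (hr : S.defsRange = true) {k : ℕ} (hk : k < S.npair)
    (hne : S.defs.getD k [] ≠ []) : S.el (2 * k) = S.ev (S.defs.getD k []) := by
  have h := hv.defn k hk
  have hw : S.wOk (S.defs.getD k []) = true := by
    rw [List.getD_eq_getElem _ _ hk]
    exact List.all_eq_true.1 hr _ (List.getElem_mem hk)
  refine Equiv.ext fun x => Fin.ext ?_
  rw [Sys.el_val hv (by omega), Sys.ev_val hv hw]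
  unfold Sys.defOk at h
  cases e : S.defs.getD k [] with
  | nil => exact absurd e hne
  | cons a w =>
    rw [e] at h
    have h1 := allRange_spec 32 0 4060 h x.val (Nat.zero_le _) (by omega)
    rw [Nat.eq_of_beq_eq_true h1, runT_map]

/-! ### agreement on the spanning points -/

/-- The combination of coordinates in the rows of a matrix. -/
def xorSel : List ℕ → ℕ → ℕ
  | [], _ => 0
  | r :: rs, v => (bif Nat.beq (v % 2) 1 then r else 0) ^^^ xorSel rs (v / 2)

theorem xorSel_zero : ∀ rs : List ℕ, xorSel rs 0 = 0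
  | [] => rfl
  | _ :: rs => by
    show (bif Nat.beq (0 % 2) 1 then _ else 0) ^^^ xorSel rs (0 / 2) = 0
    rw [show Nat.beq (0 % 2) 1 = false from rfl, Nat.zero_div, xorSel_zero rs]
    simp

theorem xorSel_xor : ∀ (rs : List ℕ) (u v : ℕ), xorSel rs (u ^^^ v) = xorSel rs u ^^^ xorSel rs v
  | [], _, _ => by simp [xorSel]
  | r :: rs, u, v => by
    have e0 : (u ^^^ v) / 2 = u / 2 ^^^ v / 2 := Nat.xor_div_two
    have e1 : (u ^^^ v).testBit 0 = (u.testBit 0 ^^ v.testBit 0) := Nat.testBit_xor ..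
    have hb : ∀ n : ℕ, Nat.beq (n % 2) 1 = n.testBit 0 := fun n => by
      rw [Nat.testBit_zero]
      rcases Nat.mod_two_eq_zero_or_one n with h | h <;> rw [h] <;> rfl
    simp only [xorSel, hb, e0, e1, xorSel_xor rs]
    cases u.testBit 0 <;> cases v.testBit 0 <;>
      simp [Nat.xor_assoc, Nat.xor_comm, Nat.xor_left_comm]

def Sys.pt (S : Sys) (x : ℕ) : ℕ := field 28 S.pts x

def Sys.Lin (S : Sys) (g : Equiv.Perm Pt) : Prop :=
  ∃ f : ℕ → ℕ, f 0 = 0 ∧ (∀ u v, f (u ^^^ v) = f u ^^^ f v) ∧ ∀ x : Pt, S.pt (g x) = f (S.pt x)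

/-- An element is induced by a matrix. -/
def Sys.linOk (S : Sys) (i : ℕ) (rows : List ℕ) : Bool :=
  allRange (fun x => Nat.beq (S.pt (S.img i x)) (xorSel rows (S.pt x))) 32 0 4060

/-- Some coordinates, each one a combination of the spanning points. -/
def xorPts (S : Sys) : List ℕ → ℕ
  | [] => 0
  | j :: js => S.pt (S.sel.getD j 0) ^^^ xorPts S js

/-- The points are distinct and combinations of the spanning points. -/
def Sys.ptsOk (S : Sys) (units : List (List ℕ)) : Bool :=
  allRange (fun x => Nat.ble 4059 x || Nat.blt (S.pt x) (S.pt (x + 1))) 32 0 4060 &&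
  allRange (fun x => Nat.blt (S.pt x) (2 ^ 28)) 32 0 4060 &&
  S.sel.all (fun s => Nat.blt s 4060) &&
  units.length == 28 &&
  (List.range 28).all fun k => (units.getD k []).all (fun j => Nat.blt j S.sel.length) &&
    Nat.beq (xorPts S (units.getD k [])) (2 ^ k)

theorem eq_xor_top {v k : ℕ} (hv : v < 2 ^ (k + 1)) :
    v = (v % 2 ^ k) ^^^ (bif v.testBit k then 2 ^ k else 0) := by
  refine Nat.eq_of_testBit_eq fun i => ?_
  rcases lt_trichotomy i k with h | rfl | h
  · cases v.testBit k <;> simp [Nat.testBit_two_pow, h, h.ne']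
  · cases e : v.testBit i <;> simp [Nat.testBit_two_pow]
  · have h0 : v.testBit i = false :=
      Nat.testBit_lt_two_pow (lt_of_lt_of_le hv (Nat.pow_le_pow_right (by norm_num) h))
    cases v.testBit k <;> simp [Nat.testBit_two_pow, h0, h.ne, Nat.not_lt.2 h.le]

theorem add_ext {f g : ℕ → ℕ} (f0 : f 0 = 0) (g0 : g 0 = 0)
    (hf : ∀ u v, f (u ^^^ v) = f u ^^^ f v) (hg : ∀ u v, g (u ^^^ v) = g u ^^^ g v) :
    ∀ k, (∀ j < k, f (2 ^ j) = g (2 ^ j)) → ∀ v < 2 ^ k, f v = g v
  | 0, _, v, hv => by simp at hv; simp [hv, f0, g0]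
  | k + 1, h, v, hv => by
    rw [eq_xor_top hv, hf, hg,
      add_ext f0 g0 hf hg k (fun j hj => h j (by omega)) _ (Nat.mod_lt _ (Nat.two_pow_pos k))]
    cases v.testBit k
    · simp [f0, g0]
    · simp [h k (by omega)]

/-- A valid system with its linearity data. -/
structure Sys.Good (S : Sys) : Prop where
  valid : S.Valid
  range : S.defsRange = true
  lin : ∀ i, i < 2 * S.npair → S.Lin (S.el i)
  units : ∃ u, S.ptsOk u = true

theorem Sys.Lin.one (S : Sys) : S.Lin 1 := ⟨id, rfl, fun _ _ => rfl, fun _ => rfl⟩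

theorem Sys.Lin.mul {S : Sys} {g h : Equiv.Perm Pt} (hg : S.Lin g) (hh : S.Lin h) : S.Lin (g * h) := by
  obtain ⟨f, f0, f1, f2⟩ := hg
  obtain ⟨e, e0, e1, e2⟩ := hh
  exact ⟨f ∘ e, by simp [e0, f0], fun u v => by simp [e1, f1], fun x => by
    simp [Equiv.Perm.mul_apply, f2, e2]⟩

theorem Sys.Lin.pow {S : Sys} {g : Equiv.Perm Pt} (hg : S.Lin g) : ∀ n : ℕ, S.Lin (g ^ n)
  | 0 => by simpa using Sys.Lin.one S
  | n + 1 => by rw [pow_succ]; exact (Sys.Lin.pow hg n).mul hg

theorem Sys.Lin.inv {S : Sys} {g : Equiv.Perm Pt} (hg : S.Lin g) : S.Lin g⁻¹ := by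
  obtain ⟨n, hn⟩ := (isOfFinOrder_of_finite g).mem_powers_iff_mem_zpowers.2
    (inv_mem (Subgroup.mem_zpowers g))
  rw [← hn]; exact hg.pow n

namespace Sys.Good

variable {S : Sys} (G : S.Good)
include G

theorem ev_lin : ∀ {w : List ℕ}, S.wOk w = true → S.Lin (S.ev w)
  | [], _ => by simpa [Sys.ev] using Sys.Lin.one S
  | i :: w, h => by
    simp only [Sys.wOk, List.all_cons, Bool.and_eq_true, Nat.blt, Nat.ble_eq] at h
    rw [Sys.ev_cons]
    exact (G.lin i h.1).mul (ev_lin (w := w) h.2)

theorem pt_inj {x y : Pt} (h : S.pt x = S.pt y) : x = y := by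
  obtain ⟨u, hu⟩ := G.units
  simp only [Sys.ptsOk, Bool.and_eq_true] at hu
  have step : ∀ a, a + 1 < 4060 → S.pt a < S.pt (a + 1) := fun a ha => by
    have h1 := allRange_spec 32 0 4060 hu.1.1.1.1 a (Nat.zero_le _) (by omega)
    simp only [Bool.or_eq_true, Nat.blt, Nat.ble_eq] at h1
    omega
  have mono : ∀ d a, a + d + 1 < 4060 → S.pt a < S.pt (a + d + 1) := fun d => by
    induction d with
    | zero => exact fun a ha => step a ha
    | succ d ih => exact fun a ha => lt_trans (ih a (by omega)) (step (a + d + 1) ha)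
  refine Fin.ext ?_
  rcases lt_trichotomy (x : ℕ) y with hl | he | hl
  · obtain ⟨d, hd⟩ := Nat.exists_eq_add_of_lt hl
    exact absurd h (hd ▸ (mono d x (by omega))).ne
  · exact he
  · obtain ⟨d, hd⟩ := Nat.exists_eq_add_of_lt hl
    exact absurd h (hd ▸ (mono d y (by omega))).ne'

/-- Linear permutations agreeing on the spanning points are equal. -/
theorem lin_ext {g h : Equiv.Perm Pt} (hg : S.Lin g) (hh : S.Lin h)
    (hs : ∀ x : Pt, (x : ℕ) ∈ S.sel → g x = h x) : g = h := by
  obtain ⟨u, hu⟩ := G.units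
  obtain ⟨f, f0, f1, f2⟩ := hg
  obtain ⟨e, e0, e1, e2⟩ := hh
  have hu' := hu
  simp only [Sys.ptsOk, Bool.and_eq_true] at hu'
  simp only [Sys.ptsOk, Bool.and_eq_true, List.all_eq_true, List.mem_range, Nat.blt,
    Nat.ble_eq] at hu
  have key : ∀ k < 28, f (2 ^ k) = e (2 ^ k) := fun k hk => by
    have hk' := hu.2 k hk
    rw [← Nat.eq_of_beq_eq_true hk'.2]
    have : ∀ js : List ℕ, (∀ j ∈ js, j < S.sel.length) → f (xorPts S js) = e (xorPts S js) := by
      intro js
      induction js with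
      | nil => intro _; simp [xorPts, f0, e0]
      | cons j js ih =>
        intro hj
        have hmem : S.sel.getD j 0 ∈ S.sel := by
          rw [List.getD_eq_getElem _ _ (hj j (by simp))]; exact List.getElem_mem _
        have hlt : S.sel.getD j 0 < 4060 := hu.1.1.2 _ hmem
        rw [xorPts, f1, e1, ih (fun i hi => hj i (List.mem_cons_of_mem _ hi))]
        congr 1
        have h3 := hs ⟨_, hlt⟩ hmem
        rw [← f2 ⟨_, hlt⟩, ← e2 ⟨_, hlt⟩, h3]
    exact this _ hk'.1
  refine Equiv.ext fun x => G.pt_inj ?_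
  have hlt : S.pt x < 2 ^ 28 := by
    have := allRange_spec 32 0 4060 hu'.1.1.1.2 x.val (Nat.zero_le _) (by omega)
    simpa [Nat.blt] using this
  rw [f2, e2, add_ext f0 e0 f1 e1 28 key _ hlt]

/-- Two words agreeing on the spanning points. -/
def _root_.Cfsg.Agent.RudPerm.Sys.same (S : Sys) (u v : List ℕ) : Bool :=
  S.wOk u && S.wOk v && S.sel.all fun x => Nat.beq (S.run u x) (S.run v x)

theorem same_spec {u v : List ℕ} (h : S.same u v = true) : S.ev u = S.ev v := by
  simp only [Sys.same, Bool.and_eq_true, List.all_eq_true] at h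
  refine G.lin_ext (G.ev_lin h.1.1) (G.ev_lin h.1.2) fun x hx => Fin.ext ?_
  rw [Sys.ev_val G.valid h.1.1, Sys.ev_val G.valid h.1.2]
  exact Nat.eq_of_beq_eq_true (h.2 _ hx)

end Sys.Good

end Cfsg.Agent.RudPerm
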