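import Cfsg.Agent.Lib.RudPerm.Engine

/-!
# Membership, orbits and order bounds from certificates
-/

set_option autoImplicit false

namespace Cfsg.Agent.RudPerm

open Cfsg.Agent.Enum (allRange allRange_spec field)

variable (S : Sys)

/-- One closing step: the pairs known to lie in the subgroup. -/
def growGo : List (List ℕ) → ℕ → ℕ → ℕ
  | [], _, m => m
  | w :: ws, k, m => growGo ws (k + 1)
      (bif !w.isEmpty && w.all (fun i => m.testBit (i / 2)) then m ||| 2 ^ k else m)

def seed : List ℕ → ℕ
  | [] => 0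
  | i :: is => 2 ^ (i / 2) ||| seed is

/-- Pairs visibly in the subgroup generated by `gens`. -/
def grown (gens : List ℕ) : ℕ := growGo S.defs 0 (seed gens)

/-- Letters visibly in the subgroup generated by `gens`. -/
def inB (gens w : List ℕ) : Bool :=
  gens.all (fun i => Nat.blt i (2 * S.npair)) &&
    (let m := grown S gens; w.all fun i => Nat.blt i (2 * S.npair) && m.testBit (i / 2))

theorem seed_spec : ∀ (gens : List ℕ) (k : ℕ), (seed gens).testBit k = true → ∃ i ∈ gens, i / 2 = k
  | [], k, h => by simp [seed] at h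
  | i :: is, k, h => by
    simp only [seed, Nat.testBit_or, Bool.or_eq_true, Nat.testBit_two_pow, decide_eq_true_eq] at h
    rcases h with h | h
    · exact ⟨i, by simp, h⟩
    · obtain ⟨j, hj, e⟩ := seed_spec is k h; exact ⟨j, List.mem_cons_of_mem _ hj, e⟩

variable {S}

section
variable (G : S.Good)
include G

theorem el_mem_of_pair {H : Subgroup (Equiv.Perm Pt)} {i : ℕ} (hi : i < 2 * S.npair) :
    (S.el i ∈ H ↔ S.el (2 * (i / 2)) ∈ H) := by
  rcases Nat.even_or_odd' i with ⟨k, rfl | rfl⟩
  · rw [show (2 * k) / 2 = k by omega]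
  · rw [show (2 * k + 1) / 2 = k by omega, Sys.el_odd G.valid (show k < S.npair by omega), inv_mem_iff]

omit G in
theorem ev_mem' {H : Subgroup (Equiv.Perm Pt)} : ∀ {w : List ℕ}, (∀ i ∈ w, S.el i ∈ H) → S.ev w ∈ H
  | [], _ => by simp [Sys.ev]
  | i :: w, h => by
    rw [Sys.ev_cons]
    exact mul_mem (h i (by simp)) (ev_mem' (w := w) fun j hj => h j (List.mem_cons_of_mem _ hj))

omit G in
theorem el_mem {gens : List ℕ} {i : ℕ} (h : i ∈ gens) : S.el i ∈ S.cl gens :=
  Subgroup.subset_closure ⟨i, h, rfl⟩

theorem growGo_spec {H : Subgroup (Equiv.Perm Pt)} :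
    ∀ (ws : List (List ℕ)) (k m : ℕ), S.defs.drop k = ws →
      (∀ j, m.testBit j = true → j < S.npair → S.el (2 * j) ∈ H) →
      ∀ j, (growGo ws k m).testBit j = true → j < S.npair → S.el (2 * j) ∈ H
  | [], _, m, _, h, j, hj, hl => h j hj hl
  | w :: ws, k, m, hd, h, j, hj, hl => by
    rw [growGo] at hj
    have hd' : S.defs.drop (k + 1) = ws := by
      rw [← List.drop_drop, hd]; rfl
    refine growGo_spec ws (k + 1) _ hd' (fun i hi hil => ?_) j hj hl
    cases c : (!w.isEmpty && w.all (fun i => m.testBit (i / 2))) with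
    | false => rw [c] at hi; exact h i hi hil
    | true =>
      rw [c] at hi
      simp only [cond_true, Nat.testBit_or, Bool.or_eq_true, Nat.testBit_two_pow,
        decide_eq_true_eq] at hi
      rcases hi with hi | hi
      · exact h i hi hil
      · subst hi
        simp only [Bool.and_eq_true, Bool.not_eq_true', List.all_eq_true] at c
        have hw : S.defs.getD k [] = w := by
          have e := congrArg (fun l => List.getD l 0 []) hd
          simpa [List.getD_eq_getElem?_getD, List.getElem?_drop] using e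
        have hne : S.defs.getD k [] ≠ [] := by
          rw [hw]; intro e; simp [e] at c
        rw [el_def G.valid G.range hil hne, hw]
        refine ev_mem' fun a ha => ?_
        have hr : S.wOk (S.defs.getD k []) = true := by
          rw [List.getD_eq_getElem _ _ hil]
          exact List.all_eq_true.1 G.range _ (List.getElem_mem hil)
        rw [hw, Sys.wOk, List.all_eq_true] at hr
        have hra := hr a ha
        simp only [Nat.blt, Nat.ble_eq] at hra
        exact (el_mem_of_pair G (by omega)).2 (h _ (c.2 a ha) (by omega))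

theorem inB_spec {gens w : List ℕ} (h : inB S gens w = true) :
    S.wOk w = true ∧ (∀ i ∈ w, S.el i ∈ S.cl gens) := by
  simp only [inB, Bool.and_eq_true, List.all_eq_true, Nat.blt, Nat.ble_eq] at h
  refine ⟨by simp only [Sys.wOk, List.all_eq_true, Nat.blt, Nat.ble_eq]; exact fun i hi => (h.2 i hi).1,
    fun i hi => ?_⟩
  obtain ⟨hlt, hb⟩ := h.2 i hi
  refine (el_mem_of_pair G (by omega)).2 (growGo_spec G S.defs 0 _ rfl (fun j hj hjl => ?_) _ hb (by omega))
  obtain ⟨a, ha, e⟩ := seed_spec gens j hj
  exact e ▸ (el_mem_of_pair G (by have := h.1 a ha; omega)).1 (el_mem ha)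

theorem inB_mem {gens w : List ℕ} (h : inB S gens w = true) : S.ev w ∈ S.cl gens :=
  ev_mem' (inB_spec G h).2

end

/-! ### inclusions -/

/-- A generator with a witness: its word lies in the group and has the same effect. -/
def inclOk (S : Sys) : List ℕ → List ℕ → List (List ℕ) → Bool
  | [], _, _ => true
  | _ :: _, _, [] => false
  | a :: as, B, w :: ws => inB S B w && S.same [a] w && inclOk S as B ws

theorem inclOk_spec (G : S.Good) : ∀ {A B : List ℕ} {ws : List (List ℕ)}, inclOk S A B ws = true →
    S.cl A ≤ S.cl B := by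
  have key : ∀ {A B : List ℕ} {ws : List (List ℕ)}, inclOk S A B ws = true →
      ∀ a ∈ A, S.el a ∈ S.cl B := by
    intro A
    induction A with
    | nil => intro B ws _ a ha; simp at ha
    | cons a as ih =>
      intro B ws h
      cases ws with
      | nil => simp [inclOk] at h
      | cons w ws =>
        simp only [inclOk, Bool.and_eq_true] at h
        intro b hb
        rcases List.mem_cons.1 hb with rfl | hb
        · rw [← Sys.ev_singleton, G.same_spec h.1.2]; exact inB_mem G h.1.1
        · exact ih h.2 b hb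
  intro A B ws h
  rw [Sys.cl, Subgroup.closure_le]
  rintro g ⟨a, ha, rfl⟩
  exact key h a ha

theorem cl_le_of_mem {A : List ℕ} {H : Subgroup (Equiv.Perm Pt)} (h : ∀ a ∈ A, S.el a ∈ H) :
    S.cl A ≤ H := by
  rw [Sys.cl, Subgroup.closure_le]
  rintro g ⟨a, ha, rfl⟩
  exact h a ha

/-! ### spanning forests -/

/-- A forest: entries `point + 2^12 (parent + 2^12 gen)` and the position of each point plus one. -/
structure Forest where
  n : ℕ
  data : ℕ
  pos : ℕ

namespace Forest

def point (F : Forest) (i : ℕ) : ℕ := field 36 F.data i % 4096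

def parent (F : Forest) (i : ℕ) : ℕ := (field 36 F.data i / 4096) % 4096

def gen (F : Forest) (i : ℕ) : ℕ := field 36 F.data i / 16777216

def posn (F : Forest) (x : ℕ) : ℕ := field 12 F.pos x

def ok (F : Forest) (S : Sys) (gens roots : List ℕ) : Bool :=
  gens.all (fun g => Nat.blt g (2 * S.npair)) &&
  allRange (fun i => Nat.blt (F.point i) 4060 && Nat.beq (F.posn (F.point i)) (i + 1) &&
    (bif Nat.ble gens.length (F.gen i) then roots.any (fun r => Nat.beq r (F.point i))
     else Nat.blt (F.parent i) i &&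
       Nat.beq (S.img (gens.getD (F.gen i) 0) (F.point (F.parent i))) (F.point i))) 32 0 F.n &&
  allRange (fun x => Nat.beq (F.posn x) 0 ||
    (Nat.ble (F.posn x) F.n && Nat.beq (F.point (F.posn x - 1)) x)) 32 0 4060

def closed (F : Forest) (S : Sys) (gens : List ℕ) : Bool :=
  gens.all (fun g => Nat.blt g (2 * S.npair)) &&
  allRange (fun x => Nat.beq (F.posn x) 0 ||
    gens.all fun g => !Nat.beq (F.posn (S.img g x)) 0) 32 0 4060

/-- The set of points of a forest. -/
def set (F : Forest) : Set Pt := {x | F.posn x ≠ 0}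

theorem ncard_set {F : Forest} {S : Sys} {gens roots : List ℕ} (h : F.ok S gens roots = true) :
    F.set.ncard = F.n := by
  simp only [ok, Bool.and_eq_true] at h
  have hi : ∀ i < F.n, F.point i < 4060 ∧ F.posn (F.point i) = i + 1 := fun i hi => by
    have h1 := allRange_spec 32 0 F.n h.1.2 i (Nat.zero_le _) (by omega)
    simp only [Bool.and_eq_true, Nat.blt, Nat.ble_eq] at h1
    exact ⟨h1.1.1, Nat.eq_of_beq_eq_true h1.1.2⟩
  have e : F.set = Set.range (fun i : Fin F.n => (⟨F.point i, (hi i i.2).1⟩ : Pt)) := by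
    ext x
    simp only [set, Set.mem_ofPred_eq, Set.mem_range]
    constructor
    · intro hx
      have h1 := allRange_spec 32 0 4060 h.2 x.val (Nat.zero_le _) (by omega)
      simp only [Bool.or_eq_true, Bool.and_eq_true, Nat.ble_eq] at h1
      rcases h1 with h1 | h1
      · exact absurd (Nat.eq_of_beq_eq_true h1) hx
      · exact ⟨⟨F.posn x - 1, by omega⟩, Fin.ext (Nat.eq_of_beq_eq_true h1.2)⟩
    · rintro ⟨i, rfl⟩
      simp [(hi i i.2).2]
  rw [e, Set.ncard_range_of_injective fun i j hij => Fin.ext ?_, Nat.card_eq_fintype_card,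
    Fintype.card_fin]
  have h1 := (hi i i.2).2
  have h2 := (hi j j.2).2
  have h3 : F.point i = F.point j := congrArg Fin.val hij
  rw [h3] at h1
  omega

variable (G : S.Good)
include G

/-- A property true at the roots and carried by the generators holds on the forest. -/
theorem induct {F : Forest} {gens roots : List ℕ} (h : F.ok S gens roots = true) {P : Pt → Prop}
    (h0 : ∀ x : Pt, (x : ℕ) ∈ roots → x ∈ F.set → P x)
    (h1 : ∀ g ∈ gens, ∀ x : Pt, P x → P (S.el g x)) {x : Pt} (hx : x ∈ F.set) : P x := by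
  simp only [ok, Bool.and_eq_true, List.all_eq_true, Nat.blt, Nat.ble_eq] at h
  have key : ∀ i, i < F.n → ∀ y : Pt, (y : ℕ) = F.point i → P y := by
    intro i
    induction i using Nat.strong_induction_on with
    | _ i ih =>
      intro hi y hy
      have h2 := allRange_spec 32 0 F.n h.1.2 i (Nat.zero_le _) (by omega)
      simp only [Bool.and_eq_true, Nat.blt, Nat.ble_eq] at h2
      obtain ⟨⟨hlt, hpos⟩, h2⟩ := h2
      cases c : Nat.ble gens.length (F.gen i) with
      | true =>
        simp only [c, cond_true, List.any_eq_true] at h2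
        obtain ⟨r, hr, he⟩ := h2
        refine h0 y (by rw [hy, ← Nat.eq_of_beq_eq_true he]; exact hr) ?_
        simp [set, hy, Nat.eq_of_beq_eq_true hpos]
      | false =>
        simp only [c, cond_false, Bool.and_eq_true, Nat.blt, Nat.ble_eq] at h2
        have hgl : F.gen i < gens.length := by
          have : ¬ gens.length ≤ F.gen i := fun hle => by
            simp [Nat.ble_eq_true_of_le hle] at c
          omega
        have hp : F.point (F.parent i) < 4060 := by
          have h3 := allRange_spec 32 0 F.n h.1.2 (F.parent i) (Nat.zero_le _) (by omega)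
          simp only [Bool.and_eq_true, Nat.blt, Nat.ble_eq] at h3
          exact h3.1.1
        have hg : gens.getD (F.gen i) 0 ∈ gens := by
          rw [List.getD_eq_getElem _ _ hgl]; exact List.getElem_mem _
        have hlt' := h.1.1 _ hg
        have he : S.el (gens.getD (F.gen i) 0) ⟨_, hp⟩ = y := Fin.ext (by
          rw [Sys.el_val G.valid (by omega), hy]; exact Nat.eq_of_beq_eq_true h2.2)
        exact he ▸ h1 _ hg _ (ih _ (by omega) (by omega) _ rfl)
  have h2 := allRange_spec 32 0 4060 h.2 x.val (Nat.zero_le _) (by omega)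
  simp only [Bool.or_eq_true, Bool.and_eq_true, Nat.ble_eq] at h2
  rcases h2 with h2 | h2
  · exact absurd (Nat.eq_of_beq_eq_true h2) hx
  · refine key (F.posn x - 1) ?_ x (Nat.eq_of_beq_eq_true h2.2).symm
    have : F.posn x ≠ 0 := hx
    omega

theorem closed_spec {F : Forest} {gens : List ℕ} (h : F.closed S gens = true) :
    ∀ g ∈ S.cl gens, ∀ x, x ∈ F.set → g x ∈ F.set := by
  simp only [closed, Bool.and_eq_true, List.all_eq_true, Nat.blt, Nat.ble_eq] at h
  intro g hg
  induction hg using Subgroup.closure_induction with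
  | mem g hg =>
    obtain ⟨i, hi, rfl⟩ := hg
    intro x hx
    have h1 := allRange_spec 32 0 4060 h.2 x.val (Nat.zero_le _) (by omega)
    simp only [Bool.or_eq_true, List.all_eq_true] at h1
    rcases h1 with h1 | h1
    · exact absurd (Nat.eq_of_beq_eq_true h1) hx
    · have h2 := h1 i hi
      simp only [set, Set.mem_ofPred_eq, Sys.el_val G.valid (i := i) (by have := h.1 i hi; omega)]
      intro e
      rw [e] at h2; exact Bool.noConfusion h2
  | one => exact fun x hx => hx
  | mul g k _ _ ihg ihk => exact fun x hx => ihg _ (ihk x hx)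
  | inv g _ ih =>
    intro x hx
    have hs : g '' F.set = F.set :=
      Set.eq_of_subset_of_ncard_le (by rintro _ ⟨y, hy, rfl⟩; exact ih y hy)
        (Set.ncard_image_of_injective _ g.injective).ge
    obtain ⟨y, hy, rfl⟩ := hs.ge hx
    simpa using hy

/-- The forest is the orbit of its only root. -/
theorem orbit_eq {F : Forest} {gens : List ℕ} {b : Pt} (h : F.ok S gens [(b : ℕ)] = true)
    (hc : F.closed S gens = true) (hb : b ∈ F.set) :
    F.set = {x | ∃ g ∈ S.cl gens, g b = x} := by
  ext x
  constructor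
  · intro hx
    refine induct G h (P := fun x => ∃ g ∈ S.cl gens, g b = x) (fun y hy _ => ?_) (fun g hg y hy => ?_) hx
    · exact ⟨1, one_mem _, Fin.ext (List.mem_singleton.1 hy).symm⟩
    · obtain ⟨k, hk, rfl⟩ := hy
      exact ⟨S.el g * k, mul_mem (el_mem hg) hk, Equiv.Perm.mul_apply _ _ _⟩
  · rintro ⟨g, hg, rfl⟩
    exact closed_spec G hc g hg b hb

end Forest

/-! ### orders -/

/-- Orbit-stabiliser inside a subgroup. -/
theorem card_stab (K : Subgroup (Equiv.Perm Pt)) (b : Pt) :
    {x | ∃ g ∈ K, g b = x}.ncard * Nat.card ↥(K ⊓ MulAction.stabilizer (Equiv.Perm Pt) b) =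
      Nat.card K := by
  have h := MulAction.index_stabilizer K b
  have e : MulAction.orbit K b = {x | ∃ g ∈ K, g b = x} := by
    ext x
    simp only [MulAction.mem_orbit_iff, Set.mem_ofPred_eq]
    exact ⟨fun ⟨g, hg⟩ => ⟨g, g.2, hg⟩, fun ⟨g, hg, hx⟩ => ⟨⟨g, hg⟩, hx⟩⟩
  rw [e] at h
  rw [← h, mul_comm]
  have e2 : MulAction.stabilizer K b =
      (K ⊓ MulAction.stabilizer (Equiv.Perm Pt) b).subgroupOf K := by
    ext g
    simp [Subgroup.mem_subgroupOf, Subgroup.smul_def]
  rw [e2, ← Nat.card_congr (Subgroup.subgroupOfEquivOfLe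
    (inf_le_left : K ⊓ MulAction.stabilizer (Equiv.Perm Pt) b ≤ K)).toEquiv]
  exact Subgroup.card_mul_index _

/-- A level of a lower bound: generators, base point, orbit. -/
structure Level where
  gens : List ℕ
  b : ℕ
  F : Forest

def lowOk (S : Sys) : List ℕ → List Level → Bool
  | _, [] => true
  | cur, L :: Ls => inB S cur L.gens && Nat.blt L.b 4060 && L.F.ok S L.gens [L.b] &&
      L.F.closed S L.gens && !Nat.beq (L.F.posn L.b) 0 &&
      (match Ls with
        | [] => true
        | M :: _ => M.gens.all fun g => Nat.beq (S.img g L.b) L.b) &&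
      lowOk S L.gens Ls

def lowProd : List Level → ℕ
  | [] => 1
  | L :: Ls => L.F.n * lowProd Ls

theorem lowOk_spec (G : S.Good) : ∀ {cur : List ℕ} {L : Level} {Ls : List Level},
    lowOk S cur (L :: Ls) = true → lowProd (L :: Ls) ≤ Nat.card (S.cl L.gens)
  | cur, L, Ls, h => by
    simp only [lowOk, Bool.and_eq_true, Nat.blt, Nat.ble_eq, Bool.not_eq_true'] at h
    obtain ⟨⟨⟨⟨⟨⟨hin, hb⟩, hok⟩, hcl⟩, hpos⟩, hfix⟩, hrest⟩ := h
    have hb' : (⟨L.b, hb⟩ : Pt) ∈ L.F.set := by
      simp only [Forest.set, Set.mem_ofPred_eq]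
      intro e
      rw [e] at hpos; exact Bool.noConfusion hpos
    have hn := Forest.ncard_set hok
    rw [Forest.orbit_eq G (b := ⟨L.b, hb⟩) hok hcl hb'] at hn
    show L.F.n * lowProd Ls ≤ Nat.card (S.cl L.gens)
    rw [← card_stab (S.cl L.gens) ⟨L.b, hb⟩, hn]
    refine Nat.mul_le_mul_left _ ?_
    cases Ls with
    | nil => exact Nat.card_pos
    | cons M Ms =>
      have ih := lowOk_spec (L := M) (Ls := Ms) G hrest
      refine le_trans ih (Subgroup.card_le_of_le (le_inf ?_ ?_))
      · simp only [lowOk, Bool.and_eq_true] at hrest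
        exact cl_le_of_mem fun a ha => (inB_spec G hrest.1.1.1.1.1.1).2 a ha
      · refine cl_le_of_mem fun a ha => ?_
        simp only [lowOk, Bool.and_eq_true] at hrest
        have hlt := List.all_eq_true.1 (inB_spec G hrest.1.1.1.1.1.1).1 a ha
        simp only [List.all_eq_true] at hfix
        have := Nat.eq_of_beq_eq_true (hfix a ha)
        rw [MulAction.mem_stabilizer_iff]
        simp only [Nat.blt, Nat.ble_eq] at hlt
        rw [Equiv.Perm.smul_def]
        refine Fin.ext ?_
        rw [Sys.el_val G.valid (by omega : a < 2 * S.npair)]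
        exact this

/-- A lower bound for the order of a generated subgroup. -/
theorem low_le (G : S.Good) {cur : List ℕ} {Ls : List Level} (h : lowOk S cur Ls = true) :
    lowProd Ls ≤ Nat.card (S.cl cur) := by
  cases Ls with
  | nil => exact Nat.card_pos
  | cons L Ls =>
    refine le_trans (lowOk_spec G h) (Subgroup.card_le_of_le ?_)
    simp only [lowOk, Bool.and_eq_true] at h
    exact cl_le_of_mem fun a ha => (inB_spec G h.1.1.1.1.1.1).2 a ha

/-- A finite set containing one, closed under left multiplication by the generators. -/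
theorem mem_of_left_closed {A : Set (Equiv.Perm Pt)} {U : Set (Equiv.Perm Pt)} (h1 : (1 : Equiv.Perm Pt) ∈ U)
    (hA : ∀ a ∈ A, ∀ u ∈ U, a * u ∈ U) : ∀ g ∈ Subgroup.closure A, g ∈ U := by
  have key : ∀ g ∈ Subgroup.closure A, ∀ u ∈ U, g * u ∈ U := by
    intro g hg
    induction hg using Subgroup.closure_induction with
    | mem g hg => exact hA g hg
    | one => intro u hu; simpa using hu
    | mul g k _ _ ihg ihk => intro u hu; rw [mul_assoc]; exact ihg _ (ihk u hu)
    | inv g _ ih =>
      intro u hu
      have hs : (fun x => g * x) '' U = U :=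
        Set.eq_of_subset_of_ncard_le (by rintro _ ⟨y, hy, rfl⟩; exact ih y hy)
          (Set.ncard_image_of_injective _ (mul_right_injective g)).ge
      obtain ⟨y, hy, rfl⟩ := hs.ge hu
      simpa using hy
  exact fun g hg => by simpa using key g hg 1 h1

/-- A step of a polycyclic series. -/
structure PcStep where
  g : ℕ
  p : ℕ
  pw : List ℕ
  cj : List (List ℕ)

def cjOk (S : Sys) (g : ℕ) (prev : List ℕ) : List ℕ → List (List ℕ) → Bool
  | [], _ => true
  | _ :: _, [] => false
  | h :: hs, w :: ws => inB S prev w && S.same [g, h] (w ++ [g]) && cjOk S g prev hs ws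

def pcOk (S : Sys) : List ℕ → List PcStep → Bool
  | _, [] => true
  | prev, s :: ss => Nat.blt 0 s.p && inB S prev s.pw && S.same (List.replicate s.p s.g) s.pw &&
      cjOk S s.g prev prev s.cj && pcOk S (prev ++ [s.g]) ss

def pcProd : List PcStep → ℕ
  | [] => 1
  | s :: ss => s.p * pcProd ss

theorem cjOk_spec (G : S.Good) {g : ℕ} {prev : List ℕ} : ∀ {hs : List ℕ} {ws : List (List ℕ)},
    cjOk S g prev hs ws = true → ∀ h ∈ hs, S.el g * S.el h * (S.el g)⁻¹ ∈ S.cl prev
  | [], _, _, h, hh => by simp at hh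
  | _ :: _, [], e, _, _ => by simp [cjOk] at e
  | a :: hs, w :: ws, e, h, hh => by
    simp only [cjOk, Bool.and_eq_true] at e
    rcases List.mem_cons.1 hh with rfl | hh
    · have := G.same_spec e.1.2
      rw [Sys.ev_append, Sys.ev_singleton, Sys.ev_cons, Sys.ev_singleton] at this
      rw [this, mul_inv_cancel_right]
      exact inB_mem G e.1.1
    · exact cjOk_spec G e.2 h hh

theorem ev_replicate (S : Sys) (g : ℕ) : ∀ p, S.ev (List.replicate p g) = S.el g ^ p
  | 0 => by simp [Sys.ev]
  | p + 1 => by rw [List.replicate_succ, Sys.ev_cons, ev_replicate S g p, pow_succ']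

theorem pcOk_spec (G : S.Good) : ∀ {prev : List ℕ} {ss : List PcStep}, pcOk S prev ss = true →
    Nat.card (S.cl (prev ++ ss.map PcStep.g)) ≤ Nat.card (S.cl prev) * pcProd ss
  | prev, [], _ => by simp [pcProd]
  | prev, s :: ss, h => by
    simp only [pcOk, Bool.and_eq_true, Nat.blt, Nat.ble_eq] at h
    obtain ⟨⟨⟨⟨hp, hpw⟩, hsame⟩, hcj⟩, hrest⟩ := h
    have ih := pcOk_spec G hrest
    rw [List.map_cons, show prev ++ s.g :: ss.map PcStep.g = (prev ++ [s.g]) ++ ss.map PcStep.g by simp]
    refine le_trans ih ?_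
    rw [pcProd, ← mul_assoc]
    refine Nat.mul_le_mul_right _ ?_
    set Q := S.cl prev
    set g := S.el s.g
    have hgp : g ^ s.p ∈ Q := by
      rw [← ev_replicate, G.same_spec hsame]; exact inB_mem G hpw
    have hconj : ∀ q ∈ Q, g * q * g⁻¹ ∈ Q := by
      intro q hq
      have : Q ≤ Q.comap (MulAut.conj g).toMonoidHom := by
        refine cl_le_of_mem (H := Q.comap (MulAut.conj g).toMonoidHom) fun a ha => ?_
        rw [Subgroup.mem_comap, MulEquiv.coe_toMonoidHom, MulAut.conj_apply]
        exact cjOk_spec G hcj a ha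
      have h' := this hq
      rw [Subgroup.mem_comap, MulEquiv.coe_toMonoidHom, MulAut.conj_apply] at h'
      exact h'
    have hconj' : ∀ q ∈ Q, g⁻¹ * q * g ∈ Q := by
      intro q hq
      have hs : (fun x => g * x * g⁻¹) '' (Q : Set (Equiv.Perm Pt)) = Q :=
        Set.eq_of_subset_of_ncard_le (by rintro _ ⟨y, hy, rfl⟩; exact hconj y hy)
          (Set.ncard_image_of_injective _ fun x y e =>
            mul_left_cancel (mul_right_cancel e)).ge
      obtain ⟨y, hy, rfl⟩ := hs.ge hq
      simpa [mul_assoc] using hy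
    let f : Fin s.p × Q → Equiv.Perm Pt := fun x => g ^ (x.1 : ℕ) * x.2
    have hsub : (S.cl (prev ++ [s.g]) : Set (Equiv.Perm Pt)) ⊆ Set.range f := by
      intro x hx
      refine mem_of_left_closed (U := Set.range f) ⟨(⟨0, hp⟩, 1), by simp [f]⟩ ?_ x hx
      rintro _ ⟨a, ha, rfl⟩ _ ⟨⟨⟨i, hi⟩, q⟩, rfl⟩
      rcases List.mem_append.1 ha with ha | ha
      · have haQ : S.el a ∈ Q := el_mem ha
        have hm : (g ^ i)⁻¹ * S.el a * g ^ i ∈ Q := by
          clear hi
          induction i with
          | zero => simpa using haQ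
          | succ i ih =>
            have := hconj' _ ih
            simpa [pow_succ, mul_assoc] using this
        exact ⟨(⟨i, hi⟩, ⟨_, mul_mem hm q.2⟩), by simp [f, mul_assoc]⟩
      · rw [List.mem_singleton] at ha; subst ha
        by_cases hi' : i + 1 < s.p
        · exact ⟨(⟨i + 1, hi'⟩, q), by simp [f, g, pow_succ', mul_assoc]⟩
        · refine ⟨(⟨0, hp⟩, ⟨_, mul_mem hgp q.2⟩), ?_⟩
          simp [f, g, show s.p = i + 1 by omega, pow_succ', mul_assoc]
    show Nat.card ((S.cl (prev ++ [s.g]) : Set (Equiv.Perm Pt))) ≤ _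
    rw [Nat.card_coe_set_eq]
    refine le_trans (Set.ncard_le_ncard hsub) (le_trans (Finite.card_range_le f) ?_)
    rw [Nat.card_prod, Nat.card_fin, mul_comm]

/-- An upper bound for a polycyclic group. -/
theorem pc_le (G : S.Good) {ss : List PcStep} (h : pcOk S [] ss = true) :
    Nat.card (S.cl (ss.map PcStep.g)) ≤ pcProd ss := by
  have := pcOk_spec G h
  rwa [List.nil_append, show S.cl [] = ⊥ by simp [Sys.cl], Subgroup.card_bot, one_mul] at this

end Cfsg.Agent.RudPerm
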