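import Cfsg.Agent.Lib.RudPerm.Certs
import Cfsg.Agent.Lib.RudPerm.CheckTab0
import Cfsg.Agent.Lib.RudPerm.CheckTab1
import Cfsg.Agent.Lib.RudPerm.CheckTab2
import Cfsg.Agent.Lib.RudPerm.CheckTab3
import Cfsg.Agent.Lib.RudPerm.CheckLin
import Cfsg.Agent.Lib.RudPerm.CheckPc
import Cfsg.Agent.Lib.RudPerm.CheckT
import Cfsg.Agent.Lib.RudPerm.CheckK
import Cfsg.Agent.Lib.RudPerm.CheckH

/-!
# The groups and their orders
-/

set_option autoImplicit false
set_option maxRecDepth 20000

namespace Cfsg.Agent.RudPerm

open Certs

/-- The system. -/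
abbrev sys : Sys := Data.sys

/-- The permutations induced by linear maps. -/
def Sys.linSub (S : Sys) : Subgroup (Equiv.Perm Pt) where
  carrier := {g | S.Lin g}
  one_mem' := Sys.Lin.one S
  mul_mem' := Sys.Lin.mul
  inv_mem' := Sys.Lin.inv

theorem valid : sys.Valid := by
  have key : ∀ k, k < 140 → sys.pairOk k = true ∧ sys.defOk k = true := fun k hk => by
    by_cases h1 : k < 35
    · exact Data.pairs0 k (Nat.zero_le _) h1
    by_cases h2 : k < 70
    · exact Data.pairs1 k (by omega) h2
    by_cases h3 : k < 105
    · exact Data.pairs2 k (by omega) h3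
    exact Data.pairs3 k (by omega) hk
  exact ⟨fun k hk => (key k (Data.npair_eq ▸ hk)).1, fun k hk => (key k (Data.npair_eq ▸ hk)).2⟩

theorem linOk_lin {i : ℕ} (hi : i < 2 * sys.npair) {rows : List ℕ} (h : sys.linOk i rows = true) :
    sys.Lin (sys.el i) := by
  refine ⟨xorSel rows, xorSel_zero rows, xorSel_xor rows, fun x => ?_⟩
  have h1 := Enum.allRange_spec 32 0 4060 h x.val (Nat.zero_le _) (by omega)
  rw [Sys.el_val valid hi]
  exact Nat.eq_of_beq_eq_true h1

/-- Membership by the closing steps, before linearity is known. -/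
theorem inB_spec0 {S : Sys} (hv : S.Valid) (hr : S.defsRange = true) {H : Subgroup (Equiv.Perm Pt)}
    {gens w : List ℕ} (h : inB S gens w = true) (hg : ∀ i ∈ gens, S.el i ∈ H) : ∀ i ∈ w, S.el i ∈ H := by
  simp only [inB, Bool.and_eq_true, List.all_eq_true, Nat.blt, Nat.ble_eq] at h
  have pair : ∀ i, i < 2 * S.npair → (S.el i ∈ H ↔ S.el (2 * (i / 2)) ∈ H) := by
    intro i hi
    rcases Nat.even_or_odd' i with ⟨k, rfl | rfl⟩
    · rw [show (2 * k) / 2 = k by omega]
    · rw [show (2 * k + 1) / 2 = k by omega, Sys.el_odd hv (show k < S.npair by omega), inv_mem_iff]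
  have key : ∀ (ws : List (List ℕ)) (k m : ℕ), S.defs.drop k = ws →
      (∀ j, m.testBit j = true → j < S.npair → S.el (2 * j) ∈ H) →
      ∀ j, (growGo ws k m).testBit j = true → j < S.npair → S.el (2 * j) ∈ H := by
    intro ws
    induction ws with
    | nil => intro k m _ h j hj hl; exact h j hj hl
    | cons u us ih =>
      intro k m hd hm' j hj hl
      rw [growGo] at hj
      refine ih (k + 1) _ (by rw [← List.drop_drop, hd]; rfl) (fun i hi hil => ?_) j hj hl
      cases c : (!u.isEmpty && u.all (fun i => m.testBit (i / 2))) with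
      | false => rw [c] at hi; exact hm' i hi hil
      | true =>
        rw [c] at hi
        simp only [cond_true, Nat.testBit_or, Bool.or_eq_true, Nat.testBit_two_pow,
          decide_eq_true_eq] at hi
        rcases hi with hi | hi
        · exact hm' i hi hil
        · subst hi
          simp only [Bool.and_eq_true, Bool.not_eq_true', List.all_eq_true] at c
          have hw : S.defs.getD k [] = u := by
            have e := congrArg (fun l => List.getD l 0 []) hd
            simpa [List.getD_eq_getElem?_getD, List.getElem?_drop] using e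
          have hne : S.defs.getD k [] ≠ [] := by
            rw [hw]; intro e; simp [e] at c
          rw [el_def hv hr hil hne, hw]
          refine ev_mem' fun a ha => ?_
          have hra : a < 2 * S.npair := by
            have h1 : S.wOk (S.defs.getD k []) = true := by
              rw [List.getD_eq_getElem _ _ hil]
              exact List.all_eq_true.1 hr _ (List.getElem_mem hil)
            rw [hw, Sys.wOk, List.all_eq_true] at h1
            simpa [Nat.blt] using h1 a ha
          exact (pair a hra).2 (hm' _ (c.2 a ha) (by omega))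
  intro i hi
  obtain ⟨hlt, hb⟩ := h.2 i hi
  refine (pair i (by omega)).2 (key S.defs 0 _ rfl (fun j hj _ => ?_) _ hb (by omega))
  obtain ⟨a, ha, e⟩ := seed_spec gens j hj
  exact e ▸ (pair a (by have := h.1 a ha; omega)).1 (hg a ha)

theorem good : sys.Good := by
  refine ⟨valid, Data.defsRange, fun i hi => ?_, ⟨_, Data.pts_ok⟩⟩
  refine inB_spec0 (H := sys.linSub) valid Data.defsRange Data.all_gen ?_ i
    (List.mem_range.2 (by rw [Data.npair_eq] at hi; omega))
  intro j hj
  have hn : sys.npair = 140 := Data.npair_eq
  rcases List.mem_cons.1 hj with rfl | hj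
  · exact linOk_lin (i := 0) (by omega) Data.lin0
  · rw [List.mem_singleton] at hj; subst hj
    exact linOk_lin (i := 2) (by omega) Data.lin2

theorem card_p0 : Nat.card (sys.cl (pc0.map PcStep.g)) = 10240 :=
  le_antisymm (le_trans (pc_le good pc0_ok) (show pcProd pc0 ≤ 10240 by decide +kernel))
    (le_trans (show 10240 ≤ lowProd low0 by decide +kernel) (low_le good low0_ok))

theorem card_p : Nat.card (sys.cl (pcP.map PcStep.g)) = 20480 :=
  le_antisymm (le_trans (pc_le good pcP_ok) (show pcProd pcP ≤ 20480 by decide +kernel))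
    (le_trans (show 20480 ≤ lowProd lowP by decide +kernel) (low_le good lowP_ok))

/-- The Tits subgroup. -/
noncomputable abbrev TG : Subgroup (Equiv.Perm Pt) := sys.cl cT.Ug

/-- The point stabiliser. -/
noncomputable abbrev KG : Subgroup (Equiv.Perm Pt) := sys.cl cK.Ug

/-- The Rudvalis group. -/
noncomputable abbrev HG : Subgroup (Equiv.Perm Pt) := sys.cl cH.Ug

theorem specT : cT.Spec sys :=
  dc_spec good cT_ok (by rw [show cT.Kg = pc0.map PcStep.g by decide +kernel, card_p0]; rfl)

theorem card_t : Nat.card TG = 17971200 := by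
  rw [specT.card]; rfl

theorem specK : cK.Spec sys :=
  dc_spec good cK_ok (by rw [show cK.Kg = pcP.map PcStep.g by decide +kernel, card_p]; rfl)

theorem card_k : Nat.card KG = 35942400 := by
  rw [specK.card]; rfl

theorem specH : cH.Spec sys :=
  dc_spec good cH_ok (by rw [show cH.Kg = cK.Ug by decide +kernel]; exact card_k)

theorem card_h : Nat.card HG = 145926144000 := by
  rw [specH.card]; rfl

theorem kg_eq : sys.cl cH.Kg = KG := by rw [show cH.Kg = cK.Ug by decide +kernel]

end Cfsg.Agent.RudPerm
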