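import Cfsg.Agent.Lib.RudPerm.Model

/-!
# Simplicity
-/

set_option autoImplicit false
set_option maxRecDepth 20000

namespace Cfsg.Agent.RudPerm

open Certs

/-- The order of the group is the product on a chain with trivial last stabiliser. -/
theorem low_faithful {S : Sys} (G : S.Good) : ∀ {cur : List ℕ} {L : Level} {Ls : List Level},
    lowOk S cur (L :: Ls) = true → Nat.card (S.cl L.gens) ≤ lowProd (L :: Ls) →
    ∀ g ∈ S.cl L.gens, (∀ M ∈ L :: Ls, ∀ x : Pt, (x : ℕ) = M.b → g x = x) → g = 1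
  | cur, L, Ls, h, hle, g, hg, hfix => by
    simp only [lowOk, Bool.and_eq_true, Nat.blt, Nat.ble_eq, Bool.not_eq_true'] at h
    obtain ⟨⟨⟨⟨⟨⟨hin, hb⟩, hok⟩, hcl⟩, hpos⟩, hstep⟩, hrest⟩ := h
    have hb' : (⟨L.b, hb⟩ : Pt) ∈ L.F.set := by
      simp only [Forest.set, Set.mem_ofPred_eq]
      exact Nat.ne_of_beq_eq_false hpos
    have hn := Forest.ncard_set hok
    have hn0 : 0 < L.F.n := by
      rw [← hn]; exact (Set.ncard_pos (Set.toFinite _)).2 ⟨_, hb'⟩
    rw [Forest.orbit_eq G (b := ⟨L.b, hb⟩) hok hcl hb'] at hn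
    set St := S.cl L.gens ⊓ MulAction.stabilizer (Equiv.Perm Pt) (⟨L.b, hb⟩ : Pt)
    have hc : L.F.n * Nat.card St ≤ L.F.n * lowProd Ls := by
      have h0 := card_stab (S.cl L.gens) ⟨L.b, hb⟩
      rw [hn] at h0
      rw [h0]; exact hle
    have hc' := Nat.le_of_mul_le_mul_left hc hn0
    have hgSt : g ∈ St := ⟨hg, MulAction.mem_stabilizer_iff.2 (hfix L (by simp) ⟨L.b, hb⟩ rfl)⟩
    cases Ls with
    | nil =>
      have : St = ⊥ := Subgroup.card_eq_one.1 (le_antisymm hc' Nat.card_pos)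
      rw [this, Subgroup.mem_bot] at hgSt
      exact hgSt
    | cons M Ms =>
      have hMin := hrest
      simp only [lowOk, Bool.and_eq_true] at hMin
      have hsub : S.cl M.gens ≤ St := by
        refine cl_le_of_mem fun a ha => ⟨(inB_spec G hMin.1.1.1.1.1.1).2 a ha, ?_⟩
        show S.el a ∈ MulAction.stabilizer (Equiv.Perm Pt) (⟨L.b, hb⟩ : Pt)
        rw [MulAction.mem_stabilizer_iff, Equiv.Perm.smul_def]
        have hlt := List.all_eq_true.1 (inB_spec G hMin.1.1.1.1.1.1).1 a ha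
        simp only [Nat.blt, Nat.ble_eq] at hlt
        simp only [List.all_eq_true] at hstep
        refine Fin.ext ?_
        rw [Sys.el_val G.valid (by omega : a < 2 * S.npair)]
        exact Nat.eq_of_beq_eq_true (hstep a ha)
      have hlo := lowOk_spec (L := M) (Ls := Ms) G hrest
      have heq : S.cl M.gens = St :=
        Subgroup.eq_of_le_of_card_ge hsub (le_trans hc' hlo)
      exact low_faithful G hrest (by rw [heq]; exact hc') g (heq ▸ hgSt)
        fun N hN => hfix N (List.mem_cons_of_mem _ hN)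

/-- The base point of the large orbit of the stabiliser. -/
def ptB : Pt := Fin.ofNat 4060 cT.a

def ptA : Pt := Fin.ofNat 4060 cH.a

/-- The orbit of `ptB`. -/
def orbB : Set Pt := cK.F.set

theorem orbT : cT.F.set = orbB := by
  ext x
  have h : Enum.allRange (fun x => Nat.beq (cT.F.posn x) 0 == Nat.beq (cK.F.posn x) 0) 32 0 4060 = true := by
    decide +kernel
  have h1 := Enum.allRange_spec 32 0 4060 h x.val (Nat.zero_le _) (by omega)
  simp only [beq_iff_eq] at h1
  simp only [orbB, Forest.set, Set.mem_ofPred_eq]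
  constructor <;> intro h2 h3
  · rw [h3] at h1; exact h2 (Nat.eq_of_beq_eq_true h1)
  · rw [h3] at h1; exact h2 (Nat.eq_of_beq_eq_true h1.symm)

theorem bases_mem : ∀ M ∈ low0 ++ lowP, ∀ x : Pt, (x : ℕ) = M.b → x ∈ orbB := by
  have h : ((low0 ++ lowP).all fun M => !Nat.beq (cK.F.posn M.b) 0) = true := by decide +kernel
  intro M hM x hx
  have h1 := List.all_eq_true.1 h M hM
  simp only [Bool.not_eq_true'] at h1
  simp only [orbB, Forest.set, Set.mem_ofPred_eq, hx]
  exact Nat.ne_of_beq_eq_false h1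

theorem ptB_mem : ptB ∈ orbB := by
  rw [← orbT, specT.orbit]
  exact ⟨1, one_mem _, rfl⟩

/-- An element of the stabiliser fixing the orbit pointwise is trivial. -/
theorem faithful_k {g : Equiv.Perm Pt} (hg : g ∈ KG) (hfix : ∀ x ∈ orbB, g x = x) : g = 1 := by
  have hb : g (Fin.ofNat 4060 cK.a) = Fin.ofNat 4060 cK.a := by
    refine hfix _ ?_
    rw [orbB, specK.orbit]
    exact ⟨1, one_mem _, rfl⟩
  have hgP : g ∈ sys.cl cK.Kg := (specK.stab g hg).1 hb
  rw [show cK.Kg = pcP.map PcStep.g by decide +kernel] at hgP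
  cases hl : lowP with
  | nil => exact absurd hl (by intro e; have h2 : (lowP.isEmpty) = false := by decide +kernel
                               simp [e] at h2)
  | cons L Ls =>
    have hL : L.gens = pcP.map PcStep.g := by
      have h2 : (lowP.head?.map Level.gens) = some (pcP.map PcStep.g) := by decide +kernel
      rw [hl] at h2; simpa using h2
    have hok := lowP_ok
    rw [hl] at hok
    refine low_faithful good hok ?_ g (hL ▸ hgP) fun M hM x hx => hfix x ?_
    · rw [hL, card_p, ← hl]; decide +kernel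
    · exact bases_mem M (List.mem_append_right _ (hl ▸ hM)) x hx

theorem tk : TG ≤ KG := by
  refine cl_le_of_mem fun a ha => el_mem ?_
  have h : (cT.Ug.all fun a => cK.Ug.contains a) = true := by decide +kernel
  exact List.contains_iff_mem.1 (List.all_eq_true.1 h a ha)

/-- A block through the base point, invariant under the stabiliser, is trivial. -/
theorem block_cases {S : Sys} {D : DC} (hs : D.Spec S) {B : Set Pt} (hB : B ⊆ D.F.set)
    (hK : ∀ g ∈ S.cl D.Kg, ∀ x ∈ B, g x ∈ B) :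
    ∃ J : Finset ℕ, J ⊆ Finset.range D.reps.length ∧
      (∀ j < D.reps.length, j ∈ J ↔ ((rep? D j).F.set ∩ B).Nonempty) ∧
      (∀ j ∈ J, (rep? D j).F.set ⊆ B) ∧ B.ncard = J.sum fun j => (rep? D j).F.n := by
  classical
  set J := (Finset.range D.reps.length).filter fun j => ((rep? D j).F.set ∩ B).Nonempty with hJ
  have hmem : ∀ j, j ∈ J ↔ j < D.reps.length ∧ ((rep? D j).F.set ∩ B).Nonempty := by simp [hJ]
  have hsub : ∀ j ∈ J, (rep? D j).F.set ⊆ B := by
    intro j hj y hy
    obtain ⟨hj', x, hx, hxB⟩ := (hmem j).1 hj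
    obtain ⟨b, -, ho, -⟩ := hs.sub _ (rep?_mem hj')
    rw [ho] at hx hy
    obtain ⟨g, hg, rfl⟩ := hx
    obtain ⟨k, hk, rfl⟩ := hy
    have := hK (k * g⁻¹) (mul_mem hk (inv_mem hg)) _ hxB
    simpa using this
  refine ⟨J, Finset.filter_subset _ _, fun j hj => by rw [hmem]; simp [hj], hsub, ?_⟩
  have e : B = ⋃ j ∈ J, (rep? D j).F.set := by
    refine Set.Subset.antisymm (fun x hx => ?_) (Set.iUnion₂_subset hsub)
    obtain ⟨j, hj, hjx⟩ := hs.cover x (hB hx)
    exact Set.mem_biUnion ((hmem j).2 ⟨hj, x, hjx, hx⟩) hjx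
  rw [e]
  rw [show (⋃ j ∈ J, (rep? D j).F.set) = ⋃ j ∈ (J : Set ℕ), (rep? D j).F.set by simp,
    J.finite_toSet.ncard_biUnion (fun i _ => Set.toFinite _)]
  · rw [finsum_mem_coe_finset]
    refine Finset.sum_congr rfl fun j hj => ?_
    obtain ⟨b, -, -, -, hn⟩ := hs.sub _ (rep?_mem ((hmem j).1 hj).1)
    exact hn
  · intro i hi j hj hij
    rw [Function.onFun, Set.disjoint_left]
    exact fun x hxi hxj => hij (hs.disj i ((hmem i).1 hi).1 j ((hmem j).1 hj).1 x hxi hxj)

/-- A normal subgroup fixes the orbit or is transitive on it. -/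
theorem normal_cases {S : Sys} {D : DC} (hs : D.Spec S) (hm : Nat.card (S.cl D.Kg) = D.m)
    (hm0 : 0 < D.m) (h0 : (rep? D 0).F.n = 1 ∧ 0 < D.reps.length ∧ (rep? D 0).b = D.a) (ha : D.a < 4060)
    (hnum : ∀ J ⊆ Finset.range D.reps.length, 0 ∈ J →
      (J.sum fun j => (rep? D j).F.n) ∣ D.n → J = {0} ∨ J = Finset.range D.reps.length)
    (N : Subgroup (Equiv.Perm Pt)) (hNH : N ≤ S.cl D.Ug)
    (hnor : ∀ g ∈ S.cl D.Ug, ∀ n ∈ N, g * n * g⁻¹ ∈ N) :
    (∀ n ∈ N, ∀ x ∈ D.F.set, n x = x) ∨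
    (∀ g ∈ S.cl D.Ug, ∃ n ∈ N, ∃ k ∈ S.cl D.Kg, g = n * k) := by
  classical
  set a : Pt := Fin.ofNat 4060 D.a
  set H := S.cl D.Ug
  set K := S.cl D.Kg
  set L := N ⊔ K
  have hL : ∀ g ∈ L, ∃ n ∈ N, ∃ k ∈ K, g = n * k := by
    intro g hg
    have hcl : g ∈ Subgroup.closure ((N : Set (Equiv.Perm Pt)) ∪ K) := by
      rwa [Subgroup.closure_union, Subgroup.closure_eq, Subgroup.closure_eq]
    refine mem_of_left_closed (U := {g | ∃ n ∈ N, ∃ k ∈ K, g = n * k}) ⟨1, one_mem _, 1, one_mem _, by simp⟩ ?_ g hcl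
    rintro x hx _ ⟨n, hn, k, hk, rfl⟩
    rcases hx with hx | hx
    · exact ⟨x * n, mul_mem hx hn, k, hk, by simp [mul_assoc]⟩
    · exact ⟨x * n * x⁻¹, hnor x (hs.le hx) n hn, x * k, mul_mem hx hk, by group⟩
  have hLH : L ≤ H := sup_le hNH hs.le
  set B := {x | ∃ g ∈ L, g a = x} with hBdef
  have hBsub : B ⊆ D.F.set := by
    rintro x ⟨g, hg, rfl⟩
    rw [hs.orbit]; exact ⟨g, hLH hg, rfl⟩
  obtain ⟨J, hJr, hJiff, hJsub, hJcard⟩ := block_cases hs hBsub (by
    rintro g hg x ⟨l, hl, rfl⟩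
    exact ⟨g * l, mul_mem (Subgroup.mem_sup_right hg) hl, rfl⟩)
  have hcs := card_stab L a
  have hKe : L ⊓ MulAction.stabilizer (Equiv.Perm Pt) a = K := by
    ext g
    rw [Subgroup.mem_inf, MulAction.mem_stabilizer_iff, Equiv.Perm.smul_def]
    refine ⟨fun h => (hs.stab g (hLH h.1)).1 h.2, fun h => ⟨Subgroup.mem_sup_right h, ?_⟩⟩
    exact (hs.stab g (hs.le h)).2 h
  rw [hKe, hm, ← hBdef] at hcs
  have hdvd : B.ncard ∣ D.n := by
    have h1 := Subgroup.card_dvd_of_le hLH
    rw [hs.card, ← hcs] at h1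
    exact Nat.dvd_of_mul_dvd_mul_right hm0 h1
  obtain ⟨b, hb, ho, -, hn0⟩ := hs.sub _ (rep?_mem h0.2.1)
  have hba : b = a := Fin.ext (by rw [hb, h0.2.2]; exact (Nat.mod_eq_of_lt ha).symm)
  have hsingle : (rep? D 0).F.set = {a} := by
    rw [h0.1, Set.ncard_eq_one] at hn0
    obtain ⟨y, hy⟩ := hn0
    have : a ∈ (rep? D 0).F.set := by rw [ho]; exact ⟨1, one_mem _, by rw [hba]; rfl⟩
    rw [hy] at this ⊢
    rw [Set.mem_singleton_iff.1 this]
  have h0J : 0 ∈ J := (hJiff 0 h0.2.1).2 ⟨a, by rw [hsingle]; rfl, 1, one_mem _, rfl⟩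
  rw [hJcard] at hdvd
  rcases hnum J hJr h0J hdvd with hJ | hJ
  · left
    intro n hn x hx
    rw [hs.orbit] at hx
    obtain ⟨g, hg, rfl⟩ := hx
    have hn' : g⁻¹ * n * g ∈ N := by simpa using hnor g⁻¹ (inv_mem hg) n hn
    have hy : (g⁻¹ * n * g) a ∈ B := ⟨_, Subgroup.mem_sup_left hn', rfl⟩
    obtain ⟨j, hj, hjx⟩ := hs.cover _ (hBsub hy)
    have hjJ : j ∈ J := (hJiff j hj).2 ⟨_, hjx, hy⟩
    rw [hJ, Finset.mem_singleton] at hjJ
    subst hjJ
    rw [hsingle, Set.mem_singleton_iff] at hjx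
    have := congrArg g hjx
    rw [Equiv.Perm.mul_apply, Equiv.Perm.mul_apply, Equiv.Perm.inv_def, Equiv.apply_symm_apply] at this
    exact this
  · right
    intro g hg
    have hx : g a ∈ B := by
      have : g a ∈ D.F.set := by rw [hs.orbit]; exact ⟨g, hg, rfl⟩
      obtain ⟨j, hj, hjx⟩ := hs.cover _ this
      exact hJsub j (hJ ▸ Finset.mem_range.2 hj) hjx
    obtain ⟨l, hl, hlx⟩ := hx
    have hk : l⁻¹ * g ∈ K :=
      (hs.stab _ (mul_mem (inv_mem (hLH hl)) hg)).1 (by
        show (l⁻¹ * g) a = a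
        rw [Equiv.Perm.mul_apply, ← hlx]; simp)
    obtain ⟨n, hn, k, hk', rfl⟩ := hL l hl
    exact ⟨n, hn, k * ((n * k)⁻¹ * g), mul_mem hk' hk, by group⟩

theorem num_t : ∀ J ⊆ Finset.range cT.reps.length, 0 ∈ J →
    (J.sum fun j => (rep? cT j).F.n) ∣ cT.n → J = {0} ∨ J = Finset.range cT.reps.length := by
  have h : ∀ J ∈ (Finset.range cT.reps.length).powerset, 0 ∈ J →
      (J.sum fun j => (rep? cT j).F.n) ∣ cT.n → J = {0} ∨ J = Finset.range cT.reps.length := by decide +kernel
  exact fun J hJ => h J (Finset.mem_powerset.2 hJ)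

theorem num_h : ∀ J ⊆ Finset.range cH.reps.length, 0 ∈ J →
    (J.sum fun j => (rep? cH j).F.n) ∣ cH.n → J = {0} ∨ J = Finset.range cH.reps.length := by
  have h : ∀ J ∈ (Finset.range cH.reps.length).powerset, 0 ∈ J →
      (J.sum fun j => (rep? cH j).F.n) ∣ cH.n → J = {0} ∨ J = Finset.range cH.reps.length := by decide +kernel
  exact fun J hJ => h J (Finset.mem_powerset.2 hJ)

theorem card_kg_t : Nat.card (sys.cl cT.Kg) = cT.m := by
  rw [show cT.Kg = pc0.map PcStep.g by decide +kernel, card_p0]; rfl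

theorem card_kg_h : Nat.card (sys.cl cH.Kg) = cH.m := by
  rw [kg_eq, card_k]; rfl

/-- The conjugating words of the generators. -/
def genOk : Bool :=
  (sys.same [z, z] []) && inB sys cT.Ug oddW && sys.same ((List.replicate oddN oddW).flatten) [] &&
  Nat.beq (oddW.length % 2) 1 && Nat.beq (oddN % 2) 1 && oddW.all (fun i => zs.contains i) &&
  cT.Kg.all (fun p => sys.same [z, p] [p, z]) && Nat.beq us.length (zs.length - 1) &&
  (List.range us.length).all (fun i => inB sys cT.Ug (us.getD i []) &&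
    sys.same (zs.getD (i + 1) 0 :: us.getD i []) (us.getD i [] ++ [z])) &&
  Nat.beq (zs.getD 0 0) z && (cT.Ug == zs)

theorem genOk_true : genOk = true := by decide +kernel

theorem ev_flatten (w : List ℕ) : ∀ n, sys.ev (List.replicate n w).flatten = sys.ev w ^ n
  | 0 => by simp [Sys.ev]
  | n + 1 => by rw [List.replicate_succ, List.flatten_cons, Sys.ev_append, ev_flatten w n, pow_succ']

/-- The Tits subgroup is simple. -/
theorem simple_t (N : Subgroup (Equiv.Perm Pt)) (hN : N ≤ TG)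
    (hnor : ∀ g ∈ TG, ∀ n ∈ N, g * n * g⁻¹ ∈ N) : N = ⊥ ∨ N = TG := by
  have hz := genOk_true
  simp only [genOk, Bool.and_eq_true, List.all_eq_true, List.mem_range, beq_iff_eq] at hz
  obtain ⟨⟨⟨⟨⟨⟨⟨⟨⟨⟨hsq, hwT⟩, hodd⟩, hlen⟩, hNodd⟩, hwz⟩, hcomm⟩, hus⟩, hconj⟩, hz0⟩, hUg⟩ := hz
  rcases normal_cases specT card_kg_t (by decide +kernel) (by decide +kernel) (by decide +kernel) num_t
    N hN hnor with h | h
  · left
    rw [Subgroup.eq_bot_iff_forall]
    exact fun n hn => faithful_k (tk (hN hn)) fun x hx => h n hn x (orbT ▸ hx)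
  · right
    refine le_antisymm hN ?_
    set Z := sys.el z
    have hZ2 : Z * Z = 1 := by
      have := good.same_spec hsq
      simpa [Sys.ev] using this
    have hcent : ∀ k ∈ sys.cl cT.Kg, k * Z * k⁻¹ = Z := by
      have : sys.cl cT.Kg ≤ Subgroup.centralizer {Z} := by
        refine cl_le_of_mem fun p hp => Subgroup.mem_centralizer_singleton_iff.2 ?_
        have := good.same_spec (hcomm p hp)
        rw [Sys.ev_cons, Sys.ev_singleton, Sys.ev_cons, Sys.ev_singleton] at this
        exact this.symm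
      intro k hk
      rw [Subgroup.mem_centralizer_singleton_iff.1 (this hk), mul_inv_cancel_right]
    have hZT : Z ∈ TG := el_mem (by
      rw [hUg, ← Nat.eq_of_beq_eq_true hz0]
      have hl : 0 < zs.length := by decide +kernel
      rw [List.getD_eq_getElem _ _ hl]; exact List.getElem_mem _)
    -- every generator is `Z` modulo `N`
    have hzs : ∀ y ∈ zs, sys.el y * Z ∈ N := by
      intro y hy
      obtain ⟨i, hi, rfl⟩ := List.getElem_of_mem hy
      rw [← List.getD_eq_getElem _ 0 hi]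
      cases i with
      | zero => rw [Nat.eq_of_beq_eq_true hz0, hZ2]; exact one_mem _
      | succ i =>
        have hlt : i < us.length := by
          rw [Nat.eq_of_beq_eq_true hus]; omega
        obtain ⟨hu, hsame⟩ := hconj i hlt
        have e := good.same_spec hsame
        rw [Sys.ev_cons, Sys.ev_append, Sys.ev_singleton] at e
        obtain ⟨n, hn, k, hk, hgk⟩ := h _ (inB_mem good hu)
        have ey : sys.el (zs.getD (i + 1) 0) = n * Z * n⁻¹ := by
          rw [eq_mul_inv_of_mul_eq e, hgk]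
          calc n * k * Z * (n * k)⁻¹ = n * (k * Z * k⁻¹) * n⁻¹ := by group
            _ = _ := by rw [hcent k hk]
        rw [ey]
        have h1 := mul_mem hn (hnor Z hZT n⁻¹ (inv_mem hn))
        have hZi : Z⁻¹ = Z := inv_eq_of_mul_eq_one_right hZ2
        rw [hZi] at h1
        simpa [mul_assoc] using h1
    have hword : ∀ w : List ℕ, (∀ i ∈ w, i ∈ zs) → sys.ev w * Z ^ w.length ∈ N := by
      intro w
      induction w with
      | nil => intro _; simp [Sys.ev]
      | cons i w ih =>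
        intro hi
        have h1 := ih fun j hj => hi j (List.mem_cons_of_mem _ hj)
        have h2 := hzs i (hi i (by simp))
        have hiT : sys.el i ∈ TG := el_mem (hUg ▸ hi i (by simp))
        rw [Sys.ev_cons, List.length_cons, pow_succ]
        have h3 := hnor _ hiT _ h1
        have e : sys.el i * sys.ev w * (Z ^ w.length * Z) =
            (sys.el i * (sys.ev w * Z ^ w.length) * (sys.el i)⁻¹) * (sys.el i * Z) := by group
        rw [e]; exact mul_mem h3 h2
    have hZodd : Z ^ oddW.length = Z := by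
      obtain ⟨m, hm⟩ : ∃ m, oddW.length = 2 * m + 1 := ⟨oddW.length / 2, by
        have := Nat.eq_of_beq_eq_true hlen; omega⟩
      rw [hm, pow_succ, pow_mul, sq, hZ2, one_pow, one_mul]
    set w := sys.ev oddW
    have hw : w * Z ∈ N := by
      have := hword oddW fun i hi => List.contains_iff_mem.1 (hwz i hi)
      rwa [hZodd] at this
    have hpow : ∀ j : ℕ, w ^ j * Z ^ j ∈ N := by
      intro j
      induction j with
      | zero => simp
      | succ j ih =>
        have hwT' : w ∈ TG := inB_mem good hwT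
        have h3 := hnor w hwT' _ ih
        have e : w ^ (j + 1) * Z ^ (j + 1) = (w * (w ^ j * Z ^ j) * w⁻¹) * (w * Z) := by
          rw [pow_succ', pow_succ]; group
        rw [e]; exact mul_mem h3 hw
    have hZN : Z ∈ N := by
      have h1 := hpow oddN
      have hone : w ^ oddN = 1 := by
        rw [← ev_flatten, good.same_spec hodd]; simp [Sys.ev]
      obtain ⟨m, hm⟩ : ∃ m, oddN = 2 * m + 1 := ⟨oddN / 2, by
        have := Nat.eq_of_beq_eq_true hNodd; omega⟩
      rwa [hone, one_mul, hm, pow_succ, pow_mul, sq, hZ2, one_pow, one_mul] at h1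
    rw [TG, hUg]
    refine cl_le_of_mem fun y hy => ?_
    have := mul_mem (hzs y hy) hZN
    rwa [mul_assoc, hZ2, mul_one] at this

end Cfsg.Agent.RudPerm
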