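import Cfsg.Agent.Lib.RudPerm.Simple

/-!
# The group of degree 4060 is simple
-/

set_option autoImplicit false
set_option maxRecDepth 20000

namespace Cfsg.Agent.RudPerm

open Certs

attribute [local irreducible] Sys.el Sys.ev

/-- The relations of the outer element and the two generators. -/
def topOk : Bool :=
  sigSq.all (fun i => Nat.blt i 280) && inB sys zs sigSq && sys.same [sig, sig] sigSq &&
  cjOk sys sig zs zs sigW && (cK.Ug == zs ++ [sig]) && (cT.Ug == zs) &&
  sys.same (List.replicate 29 0) [] && sys.same (List.replicate 29 2) [] && (cH.Ug == [0, 2])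

theorem topOk_true : topOk = true := by decide +kernel

theorem k_cases : ∀ g ∈ KG, g ∈ TG ∨ (sys.el sig)⁻¹ * g ∈ TG := by
  have h := topOk_true
  simp only [topOk, Bool.and_eq_true, beq_iff_eq] at h
  obtain ⟨⟨⟨⟨⟨⟨⟨⟨-, hsqT⟩, hsq⟩, hcj⟩, hK⟩, hT⟩, -⟩, -⟩, -⟩ := h
  set s := sys.el sig
  have hs2 : s * s ∈ TG := by
    have e := good.same_spec hsq
    rw [Sys.ev_cons, Sys.ev_singleton] at e
    rw [TG, hT, e]; exact inB_mem good hsqT
  have hnorm : ∀ t ∈ TG, s * t * s⁻¹ ∈ TG := by
    intro t ht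
    have : sys.cl zs ≤ (sys.cl zs).comap (MulAut.conj s).toMonoidHom := by
      refine cl_le_of_mem fun a ha => ?_
      rw [Subgroup.mem_comap, MulEquiv.coe_toMonoidHom, MulAut.conj_apply]
      exact cjOk_spec good hcj a ha
    rw [TG, hT] at ht ⊢
    have h2 := this ht
    rw [Subgroup.mem_comap, MulEquiv.coe_toMonoidHom, MulAut.conj_apply] at h2
    exact h2
  have hs : Nat.card TG = Nat.card TG := rfl
  have hconj' : ∀ t ∈ TG, s⁻¹ * t * s ∈ TG := by
    intro t ht
    have him : (fun x => s * x * s⁻¹) '' (TG : Set (Equiv.Perm Pt)) = TG :=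
      Set.eq_of_subset_of_ncard_le (by rintro _ ⟨y, hy, rfl⟩; exact hnorm y hy)
        (Set.ncard_image_of_injective _ fun x y e => mul_left_cancel (mul_right_cancel e)).ge
    obtain ⟨y, hy, rfl⟩ := him.ge ht
    simpa [mul_assoc] using hy
  intro g hg
  rw [KG, hK] at hg
  refine mem_of_left_closed (U := {g | g ∈ TG ∨ s⁻¹ * g ∈ TG}) (Or.inl (one_mem _)) ?_ g hg
  rintro _ ⟨a, ha, rfl⟩ u hu
  rcases List.mem_append.1 ha with ha | ha
  · have haT : sys.el a ∈ TG := by rw [TG, hT]; exact el_mem ha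
    rcases hu with hu | hu
    · exact Or.inl (mul_mem haT hu)
    · refine Or.inr ?_
      have := mul_mem (hconj' _ haT) hu
      simpa [mul_assoc] using this
  · rw [List.mem_singleton] at ha; subst ha
    rcases hu with hu | hu
    · exact Or.inr (by simpa [s] using hu)
    · refine Or.inl ?_
      have := mul_mem hs2 hu
      simpa [s, mul_assoc] using this

theorem t_normal : ∀ k ∈ KG, ∀ t ∈ TG, k * t * k⁻¹ ∈ TG := by
  intro k hk t ht
  have hKG : ∀ a ∈ cK.Ug, ∀ t ∈ TG, sys.el a * t * (sys.el a)⁻¹ ∈ TG := by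
    have h := topOk_true
    simp only [topOk, Bool.and_eq_true, beq_iff_eq] at h
    obtain ⟨⟨⟨⟨⟨⟨⟨⟨-, -⟩, -⟩, hcj⟩, hK⟩, hT⟩, -⟩, -⟩, -⟩ := h
    intro a ha t ht
    rw [hK] at ha
    rw [TG, hT] at ht ⊢
    rcases List.mem_append.1 ha with ha | ha
    · exact mul_mem (mul_mem (el_mem ha) ht) (inv_mem (el_mem ha))
    · rw [List.mem_singleton] at ha; subst ha
      have : sys.cl zs ≤ (sys.cl zs).comap (MulAut.conj (sys.el sig)).toMonoidHom := by
        refine cl_le_of_mem fun a ha => ?_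
        rw [Subgroup.mem_comap, MulEquiv.coe_toMonoidHom, MulAut.conj_apply]
        exact cjOk_spec good hcj a ha
      have h2 := this ht
      rw [Subgroup.mem_comap, MulEquiv.coe_toMonoidHom, MulAut.conj_apply] at h2
      exact h2
  revert t
  refine mem_of_left_closed (U := {g | ∀ t ∈ TG, g * t * g⁻¹ ∈ TG}) (fun t ht => by simpa using ht) ?_ k hk
  rintro _ ⟨a, ha, rfl⟩ u hu t ht
  have := hKG a ha _ (hu t ht)
  simpa [mul_assoc] using this

/-- Only the base point of its orbit is fixed by its stabiliser in the Tits subgroup. -/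
theorem only_fix {x : Pt} (hx : x ∈ orbB) (hfix : ∀ g ∈ sys.cl cT.Kg, g x = x) : x = ptB := by
  rw [← orbT] at hx
  obtain ⟨j, hj, hjx⟩ := specT.cover x hx
  obtain ⟨b, hb, ho, -, hn⟩ := specT.sub _ (rep?_mem hj)
  rw [ho] at hjx
  obtain ⟨g, hg, rfl⟩ := hjx
  have hbfix : ∀ k ∈ sys.cl cT.Kg, k b = b := by
    intro k hk
    have h1 := hfix (g * k * g⁻¹) (mul_mem (mul_mem hg hk) (inv_mem hg))
    simp only [Equiv.Perm.mul_apply, Equiv.Perm.inv_def, Equiv.symm_apply_apply] at h1
    exact g.injective h1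
  have h1 : (rep? cT j).F.n = 1 := by
    rw [← hn, ho, Set.ncard_eq_one]
    exact ⟨b, Set.Subset.antisymm (by rintro _ ⟨k, hk, rfl⟩; exact hbfix k hk)
      (by rintro _ rfl; exact ⟨1, one_mem _, rfl⟩)⟩
  have hall : ((List.range cT.reps.length).all fun j =>
      !Nat.beq (rep? cT j).F.n 1 || Nat.beq (rep? cT j).b cT.a) = true := by decide +kernel
  have h2 := List.all_eq_true.1 hall j (List.mem_range.2 hj)
  rw [h1] at h2
  simp only [show Nat.beq 1 1 = true from rfl, Bool.not_true, Bool.false_or] at h2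
  rw [hbfix g hg]
  exact Fin.ext (by rw [hb, Nat.eq_of_beq_eq_true h2]; exact (Nat.mod_eq_of_lt (by decide +kernel)).symm)

/-- A group of order 4060 does not have elements of only two orders besides one. -/
theorem three_orders {N : Subgroup (Equiv.Perm Pt)} (hN : Nat.card N = 4060) :
    ∃ u v w : Equiv.Perm Pt, u ∈ N ∧ v ∈ N ∧ w ∈ N ∧ orderOf u = 2 ∧ orderOf v = 5 ∧ orderOf w = 7 := by
  haveI : Fact (Nat.Prime 2) := ⟨by norm_num⟩
  haveI : Fact (Nat.Prime 5) := ⟨by norm_num⟩
  haveI : Fact (Nat.Prime 7) := ⟨by norm_num⟩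
  obtain ⟨u, hu⟩ := exists_prime_orderOf_dvd_card' (G := N) 2 (by rw [hN]; norm_num)
  obtain ⟨v, hv⟩ := exists_prime_orderOf_dvd_card' (G := N) 5 (by rw [hN]; norm_num)
  obtain ⟨w, hw⟩ := exists_prime_orderOf_dvd_card' (G := N) 7 (by rw [hN]; norm_num)
  exact ⟨u, v, w, u.2, v.2, w.2, by rwa [Subgroup.orderOf_coe], by rwa [Subgroup.orderOf_coe],
    by rwa [Subgroup.orderOf_coe]⟩

/-- The whole group is simple. -/
theorem simple_h (N : Subgroup (Equiv.Perm Pt)) (hN : N ≤ HG)
    (hnor : ∀ g ∈ HG, ∀ n ∈ N, g * n * g⁻¹ ∈ N) : N = ⊥ ∨ N = HG := by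
  rcases normal_cases specH card_kg_h (by decide +kernel) (by decide +kernel) (by decide +kernel) num_h
    N hN hnor with h | h
  · left
    rw [Subgroup.eq_bot_iff_forall]
    intro n hn
    have hall : Enum.allRange (fun x => !Nat.beq (cH.F.posn x) 0) 32 0 4060 = true := by decide +kernel
    refine Equiv.ext fun x => h n hn x ?_
    have h1 := Enum.allRange_spec 32 0 4060 hall x.val (Nat.zero_le _) (by omega)
    simp only [Bool.not_eq_true'] at h1
    simp only [Forest.set, Set.mem_ofPred_eq]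
    exact Nat.ne_of_beq_eq_false h1
  have hKH : KG ≤ HG := kg_eq ▸ specH.le
  have hTH : TG ≤ HG := le_trans tk hKH
  rcases simple_t (N ⊓ TG) inf_le_right
    (fun g hg n hn => Subgroup.mem_inf.2 ⟨hnor g (hTH hg) n (Subgroup.mem_inf.1 hn).1,
      mul_mem (mul_mem hg (Subgroup.mem_inf.1 hn).2) (inv_mem hg)⟩) with h0 | h0
  · exfalso
    have hKN : ∀ k ∈ KG, k ∈ N → k = 1 := by
      intro k hk hkN
      have hcomm : ∀ t ∈ TG, k * t = t * k := by
        intro t ht
        have h1 : k * t * k⁻¹ * t⁻¹ ∈ N ⊓ TG := by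
          refine Subgroup.mem_inf.2 ⟨?_, mul_mem (t_normal k hk t ht) (inv_mem ht)⟩
          have := mul_mem hkN (hnor t (hTH ht) k⁻¹ (inv_mem hkN))
          simpa [mul_assoc] using this
        rw [h0, Subgroup.mem_bot] at h1
        exact mul_inv_eq_iff_eq_mul.1 (mul_inv_eq_one.1 h1)
      have hkb : k ptB = ptB := by
        refine only_fix ?_ fun g hg => ?_
        · have h1 := ptB_mem
          rw [orbB, specK.orbit] at h1 ⊢
          obtain ⟨g, hg, hgx⟩ := h1
          exact ⟨k * g, mul_mem hk hg, by rw [Equiv.Perm.mul_apply, hgx]⟩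
        · have hgT : g ∈ TG := specT.le hg
          have hgb : g ptB = ptB := (specT.stab g hgT).2 hg
          rw [← Equiv.Perm.mul_apply, ← hcomm g hgT, Equiv.Perm.mul_apply, hgb]
      refine faithful_k hk fun x hx => ?_
      rw [← orbT, specT.orbit] at hx
      obtain ⟨t, ht, rfl⟩ := hx
      rw [← Equiv.Perm.mul_apply, hcomm t ht, Equiv.Perm.mul_apply]
      exact congrArg t hkb
    set a : Pt := Fin.ofNat 4060 cH.a
    have hN1 : ∀ n ∈ N, n a = a → n = 1 := fun n hn hna =>
      hKN n (kg_eq ▸ (specH.stab n (hN hn)).1 hna) hn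
    have hinj : ∀ m ∈ N, ∀ n ∈ N, m a = n a → m = n := fun m hm n hn e => by
      have := hN1 (n⁻¹ * m) (mul_mem (inv_mem hn) hm) (by rw [Equiv.Perm.mul_apply, e]; simp)
      rw [inv_mul_eq_one] at this; exact this.symm
    have hcard : Nat.card N = 4060 := by
      have hbij : Function.Bijective (fun n : N => (n : Equiv.Perm Pt) a) := by
        refine ⟨fun m n e => Subtype.ext (hinj m m.2 n n.2 e), fun x => ?_⟩
        have hx : x ∈ cH.F.set := by
          have hall : Enum.allRange (fun x => !Nat.beq (cH.F.posn x) 0) 32 0 4060 = true := by decide +kernel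
          have h1 := Enum.allRange_spec 32 0 4060 hall x.val (Nat.zero_le _) (by omega)
          simp only [Bool.not_eq_true'] at h1
          simp only [Forest.set, Set.mem_ofPred_eq]
          exact Nat.ne_of_beq_eq_false h1
        rw [specH.orbit] at hx
        obtain ⟨g, hg, rfl⟩ := hx
        obtain ⟨n, hn, k, hk, rfl⟩ := h g hg
        refine ⟨⟨n, hn⟩, ?_⟩
        show n a = (n * k) a
        rw [Equiv.Perm.mul_apply, (specH.stab k (specH.le hk)).2 hk]
      rw [Nat.card_congr (Equiv.ofBijective _ hbij), Nat.card_fin]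
    obtain ⟨u, v, w, hu, hv, hw, ou, ov, ow⟩ := three_orders hcard
    have hlen : cH.reps.length = 3 := by decide +kernel
    have hmem : ∀ g ∈ N, ∃ j < cH.reps.length, g a ∈ (rep? cH j).F.set := fun g hg =>
      specH.cover _ (by rw [specH.orbit]; exact ⟨g, hN hg, rfl⟩)
    have hsame : ∀ m ∈ N, ∀ n ∈ N, ∀ j < cH.reps.length, m a ∈ (rep? cH j).F.set →
        n a ∈ (rep? cH j).F.set → orderOf m = orderOf n := by
      intro m hm n hn j hj hmj hnj
      obtain ⟨b, -, ho, -⟩ := specH.sub _ (rep?_mem hj)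
      rw [ho] at hmj hnj
      obtain ⟨g1, hg1, e1⟩ := hmj
      obtain ⟨g2, hg2, e2⟩ := hnj
      have hk : g2 * g1⁻¹ ∈ sys.cl cH.Kg := mul_mem hg2 (inv_mem hg1)
      set k := g2 * g1⁻¹
      have hka : k⁻¹ a = a := (specH.stab _ (specH.le (inv_mem hk))).2 (inv_mem hk)
      have hkm : k * m * k⁻¹ = n := by
        refine hinj _ (hnor k (specH.le hk) m hm) n hn ?_
        rw [Equiv.Perm.mul_apply, Equiv.Perm.mul_apply, hka, ← e1, ← e2]
        simp [k]
      rw [← hkm]
      exact (orderOf_injective (MulAut.conj k).toMonoidHom (MulAut.conj k).injective m).symm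
    have hne : ∀ g ∈ N, 1 < orderOf g → ∃ j, (j = 1 ∨ j = 2) ∧ g a ∈ (rep? cH j).F.set := by
      intro g hg hog
      obtain ⟨j, hj, hjx⟩ := hmem g hg
      refine ⟨j, ?_, hjx⟩
      rcases (show j = 0 ∨ j = 1 ∨ j = 2 by omega) with rfl | hj' | hj'
      · exfalso
        have h00 : 0 < cH.reps.length := by omega
        have h1 : (1 : Equiv.Perm Pt) a ∈ (rep? cH 0).F.set := by
          obtain ⟨b, hb, ho, -⟩ := specH.sub _ (rep?_mem h00)
          rw [ho]
          refine ⟨1, one_mem _, Fin.ext ?_⟩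
          show (b : ℕ) = (a : ℕ)
          rw [hb]; decide +kernel
        have h2 := hsame g hg 1 (one_mem _) 0 h00 hjx h1
        rw [orderOf_one] at h2
        omega
      · exact Or.inl hj'
      · exact Or.inr hj'
    obtain ⟨i, hi, hiu⟩ := hne u hu (by omega)
    obtain ⟨j, hj, hjv⟩ := hne v hv (by omega)
    obtain ⟨l, hl, hlw⟩ := hne w hw (by omega)
    rcases (show i = j ∨ i = l ∨ j = l by omega) with rfl | rfl | rfl
    · have := hsame u hu v hv i (by omega) hiu hjv; omega
    · have := hsame u hu w hw i (by omega) hiu hlw; omega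
    · have := hsame v hv w hw j (by omega) hjv hlw; omega
  · right
    have hTN : TG ≤ N := by rw [← h0]; exact inf_le_left
    refine le_antisymm hN ?_
    set s := sys.el sig
    have hsK : s ∈ KG := by
      have h := topOk_true
      simp only [topOk, Bool.and_eq_true, beq_iff_eq] at h
      obtain ⟨⟨⟨⟨⟨⟨⟨⟨-, -⟩, -⟩, -⟩, hK⟩, -⟩, -⟩, -⟩, -⟩ := h
      rw [KG, hK]; exact el_mem (by simp)
    have hs2 : s * s ∈ N := by
      rcases k_cases (s * s) (mul_mem hsK hsK) with h1 | h1
      · exact hTN h1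
      · have : s ∈ TG := inv_mul_cancel_left s s ▸ h1
        exact hTN (mul_mem this this)
    have hsq : ∀ x ∈ HG, x * x ∈ N := by
      intro x hx
      obtain ⟨n, hn, k, hk, rfl⟩ := h x hx
      rw [kg_eq] at hk
      have hkk : k * k ∈ N := by
        rcases k_cases k hk with h1 | h1
        · exact hTN (mul_mem h1 h1)
        · obtain ⟨t, ht, rfl⟩ : ∃ t, t ∈ TG ∧ k = s * t := ⟨s⁻¹ * k, h1, (mul_inv_cancel_left s k).symm⟩
          have e : s * t * (s * t) = (s * t * s⁻¹) * (s * s) * t := by group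
          rw [e]
          exact mul_mem (mul_mem (hTN (t_normal s hsK t ht)) hs2) (hTN ht)
      have e : n * k * (n * k) = n * (k * n * k⁻¹) * (k * k) := by group
      rw [e]
      exact mul_mem (mul_mem hn (hnor k (hKH hk) n hn)) hkk
    have hodd : ∀ x ∈ HG, x ^ 29 = 1 → x ∈ N := by
      intro x hx hx29
      have h1 := Subgroup.pow_mem N (hsq x hx) 15
      rw [← sq, ← pow_mul, show 2 * 15 = 29 + 1 by norm_num, pow_succ, hx29, one_mul] at h1
      exact h1
    have ht := topOk_true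
    simp only [topOk, Bool.and_eq_true, beq_iff_eq] at ht
    obtain ⟨⟨⟨⟨⟨⟨⟨⟨-, -⟩, -⟩, -⟩, -⟩, -⟩, hX⟩, hY⟩, hU⟩ := ht
    rw [HG, hU]
    refine cl_le_of_mem fun y hy => hodd _ (el_mem (hU ▸ hy)) ?_
    rcases List.mem_cons.1 hy with rfl | hy
    · rw [← ev_replicate, good.same_spec hX]; simp [Sys.ev]
    · rw [List.mem_singleton] at hy; subst hy
      rw [← ev_replicate, good.same_spec hY]; simp [Sys.ev]

theorem isSimple_of {G : Subgroup (Equiv.Perm Pt)} (hne : G ≠ ⊥)
    (h : ∀ N : Subgroup (Equiv.Perm Pt), N ≤ G → (∀ g ∈ G, ∀ n ∈ N, g * n * g⁻¹ ∈ N) → N = ⊥ ∨ N = G) :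
    IsSimpleGroup G := by
  haveI : Nontrivial G := (Subgroup.nontrivial_iff_ne_bot G).2 hne
  refine ⟨fun M hM => ?_⟩
  rcases h (M.map G.subtype) (Subgroup.map_subtype_le M) (fun g hg n hn => by
    obtain ⟨m, hm, rfl⟩ := Subgroup.mem_map.1 hn
    exact Subgroup.mem_map.2 ⟨⟨g, hg⟩ * m * ⟨g, hg⟩⁻¹, hM.conj_mem m hm _, rfl⟩) with h1 | h1
  · left
    exact (Subgroup.map_eq_bot_iff_of_injective M G.subtype_injective).1 h1
  · right
    apply Subgroup.map_injective G.subtype_injective
    rw [h1, ← MonoidHom.range_eq_map, Subgroup.range_subtype]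

theorem simple_tg : IsSimpleGroup TG := by
  refine isSimple_of (fun e => ?_) simple_t
  have := card_t
  rw [e, Subgroup.card_bot] at this
  omega

theorem simple_hg : IsSimpleGroup HG := by
  refine isSimple_of (fun e => ?_) simple_h
  have := card_h
  rw [e, Subgroup.card_bot] at this
  omega

end Cfsg.Agent.RudPerm
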